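import Cfsg.Agent.Lib.HSLocal.Close.AutoChecks

/-!
An element of order three cycling `t`, `x 0` and their product can be normalized to one of two cases.
-/

set_option autoImplicit false
set_option maxRecDepth 100000

namespace Cfsg.Agent.HSLocal

universe v

variable {G : Type v} [Group G] {t : G} {ρ : ℕ → G}

theorem ev_congr {f g : ℕ → ℕ} : ∀ w : List ℕ, (∀ k ∈ w, f k = g k) → ev f w = ev g w
  | [], _ => rfl
  | k :: w, h => by
    rw [show ev f (k :: w) = mul (f k) (ev f w) from rfl, show ev g (k :: w) = mul (g k) (ev g w) from rfl,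
      h k List.mem_cons_self, ev_congr w fun j hj => h j (List.mem_cons_of_mem _ hj)]

theorem inCU_mod (r : ℕ) : inCU (r % 7680) = inCU r := by
  unfold inCU
  conv_rhs => rw [← mul_mod r x0, ← mul_mod x0 r]
  rw [show x0 % 7680 = x0 from rfl]

theorem gen_facts : (∀ k < 5, inCU (sg k) = true) ∧ (∀ i < 5, relOk i sg = true) ∧
    (∀ i < 5, ∀ k ∈ (relAt i).1 ++ (relAt i).2, k < 5) ∧ sg 0 = zc ∧ sg 1 = x0 ∧ mul ec ec = 0 ∧
    cj ec x0 = 33 ∧ mul zc x0 = 33 ∧ inv ec = ec := by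
  have h := genCheck_ok
  simp only [genCheck, Bool.and_eq_true, Nat.beq_eq] at h
  obtain ⟨⟨⟨⟨⟨⟨⟨⟨h1, h2⟩, h3⟩, h4⟩, h5⟩, h6⟩, h7⟩, h8⟩, h9⟩ := h
  exact ⟨fun k hk => all_range h1 hk, fun i hi => all_range h2 hi,
    fun i hi k hk => by simpa [Nat.blt] using List.all_eq_true.1 (all_range h3 hi) k hk, h4, h5, h6, h7, h8, h9⟩

theorem cu_facts {r : ℕ} (hr : r < 7680) (h : inCU r = true) : r ∈ AData.cu ∧ ev sg (cuWord r) = r ∧
    (∀ k ∈ cuWord r, k < 5) ∧ inCU (cj ec r) = true := by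
  have hc := all_range (show ((List.range 7680).all fun r => !inCU r ||
    (Nat.beq (AData.cu.getD (cuPos r) 0) r && Nat.blt (cuPos r) AData.cu.length &&
      Nat.beq (ev sg (cuWord r)) r && (cuWord r).all (fun k => Nat.blt k 5) && inCU (cj ec r))) = true
    from cuCheck_ok) hr
  simp only [h, Bool.not_true, Bool.false_or, Bool.and_eq_true, Nat.beq_eq, List.all_eq_true] at hc
  obtain ⟨⟨⟨⟨h1, h2⟩, h3⟩, h4⟩, h5⟩ := hc
  have h2' : cuPos r < AData.cu.length := by simpa [Nat.blt] using h2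
  refine ⟨?_, h3, fun k hk => by simpa [Nat.blt] using h4 k hk, h5⟩
  rw [List.getD_eq_getElem _ _ h2'] at h1
  exact h1 ▸ List.getElem_mem h2'

/-- The element permutes `t`, `x 0` and their product and acts on the five generators by the given images. -/
structure Pre (t : G) (ρ : ℕ → G) (s : G) (im : ℕ → ℕ) : Prop where
  cube : s * s * s = 1
  im_lt : ∀ k < 5, im k < 7680
  im_cu : ∀ k < 5, inCU (im k) = true
  conj : ∀ k < 5, s * ρ (sg k) * s⁻¹ = ρ (im k)

namespace Hom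

variable (C : Hom t ρ)

include C

theorem inCU_iff {r : ℕ} : inCU r = true ↔ ρ r * ρ x0 = ρ x0 * ρ r := by
  rw [← C.mul_eq, ← C.mul_eq]
  unfold inCU
  rw [Nat.beq_eq]
  exact ⟨congrArg ρ, C.inj' (mul_lt _ _) (mul_lt _ _)⟩

theorem exists_cu {g : G} (ht : g * t = t * g) (hx : g * ρ x0 = ρ x0 * g) :
    ∃ r < 7680, inCU r = true ∧ ρ r = g := by
  obtain ⟨r, hr, rfl⟩ := C.surj g ht
  exact ⟨r, hr, C.inCU_iff.2 hx, rfl⟩

theorem conj_ev {s : G} {im : ℕ → ℕ} (P : Pre t ρ s im) :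
    ∀ w : List ℕ, (∀ k ∈ w, k < 5) → s * ρ (ev sg w) * s⁻¹ = ρ (ev im w)
  | [], _ => by simp [ev, C.zero]
  | k :: w, hw => by
    rw [show ev sg (k :: w) = mul (sg k) (ev sg w) from rfl, show ev im (k :: w) = mul (im k) (ev im w) from rfl,
      C.mul_eq, C.mul_eq, ← P.conj k (hw k List.mem_cons_self),
      ← conj_ev P w (fun j hj => hw j (List.mem_cons_of_mem _ hj))]
    group

theorem conj_phi {s : G} {im : ℕ → ℕ} (P : Pre t ρ s im) {r : ℕ} (h : inCU r = true) :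
    s * ρ r * s⁻¹ = ρ (phiAt im (r % 7680)) := by
  obtain ⟨-, he, hw, -⟩ := cu_facts (Nat.mod_lt r (by norm_num)) ((inCU_mod r).trans h)
  rw [phiAt, ← C.conj_ev P _ hw, he, C.mod_eq]

theorem relOk_im {s : G} {im : ℕ → ℕ} (P : Pre t ρ s im) {i : ℕ} (hi : i < 5) : relOk i im = true := by
  obtain ⟨-, h2, h3, -⟩ := gen_facts
  unfold relOk
  rw [Nat.beq_eq]
  have h := Nat.eq_of_beq_eq_true (h2 i hi)
  refine C.inj' (ev_lt _ _) (ev_lt _ _) ?_
  rw [← C.conj_ev P _ fun k hk => h3 i hi k (List.mem_append_left _ hk),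
    ← C.conj_ev P _ fun k hk => h3 i hi k (List.mem_append_right _ hk), h]

end Hom

theorem rel_letters : (∀ k ∈ (relAt 0).1 ++ (relAt 0).2, k ∈ [0, 1, 2]) ∧
    (∀ k ∈ (relAt 1).1 ++ (relAt 1).2, k ∈ [0, 1, 3]) ∧ (∀ k ∈ (relAt 2).1 ++ (relAt 2).2, k ∈ [0, 1, 4]) ∧
    (∀ k ∈ (relAt 3).1 ++ (relAt 3).2, k ∈ [0, 1, 2, 3]) := by decide +kernel

theorem relOk_congr {i : ℕ} {f g : ℕ → ℕ} (h : ∀ k ∈ (relAt i).1 ++ (relAt i).2, f k = g k) :
    relOk i f = relOk i g := by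
  unfold relOk
  rw [ev_congr _ fun k hk => h k (List.mem_append_left _ hk),
    ev_congr _ fun k hk => h k (List.mem_append_right _ hk)]

theorem keyB_eq {a b c : ℕ} {e : ℕ × ℕ × ℕ} (h : keyB a b c e = true) : e.1 = a ∧ e.2.1 = b ∧ e.2.2 = c := by
  simp only [keyB, Bool.and_eq_true, Nat.beq_eq] at h
  exact ⟨h.1.1, h.1.2, h.2⟩

theorem mem_classes {a b c j : ℕ} (h : classOf a b c = some j) : (a, b, c, j) ∈ AData.classes := by
  simp only [classOf, Option.map_eq_some_iff] at h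
  obtain ⟨e, he, rfl⟩ := h
  have hm := List.mem_of_find?_eq_some he
  have hk : keyB a b c (e.1, e.2.1, e.2.2.1) = true := by
    simpa using List.find?_some he
  obtain ⟨h1, h2, h3⟩ := keyB_eq hk
  obtain ⟨e1, e2, e3, e4⟩ := e
  subst h1 h2 h3
  exact hm

/-- An element cycling `t`, `x 0` and their product gives images which have a class as soon as a compatible
twist exists. -/
theorem Hom.exists_pre (C : Hom t ρ) {s : G} (hs : s * s * s = 1) (hz : s * t * s⁻¹ = ρ x0)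
    (hx : s * ρ x0 * s⁻¹ = ρ 33) :
    ∃ a b c, Pre t ρ s (im5 a b c) ∧ ∀ cc ∈ AData.cu, twistCond a b c cc = true → ∃ j, classOf a b c = some j := by
  obtain ⟨g1, -, -, g0, g1', -, -, g33, -⟩ := gen_facts
  have h33 : ρ 33 = t * ρ x0 := by rw [← g33, C.mul_eq, C.zc_eq]
  have hcu : ∀ r, inCU r = true → ∃ r' < 7680, inCU r' = true ∧ ρ r' = s * ρ r * s⁻¹ := by
    intro r hr
    have ht := C.mem r
    have hr' := C.inCU_iff.1 hr
    have c1 : s * ρ r * s⁻¹ * ρ x0 = ρ x0 * (s * ρ r * s⁻¹) := by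
      rw [← hz, show s * ρ r * s⁻¹ * (s * t * s⁻¹) = s * (ρ r * t) * s⁻¹ by group, ht]; group
    have c2 : s * ρ r * s⁻¹ * ρ 33 = ρ 33 * (s * ρ r * s⁻¹) := by
      rw [← hx, show s * ρ r * s⁻¹ * (s * ρ x0 * s⁻¹) = s * (ρ r * ρ x0) * s⁻¹ by group, hr']; group
    refine C.exists_cu ?_ c1
    rw [h33, ← mul_assoc] at c2
    refine mul_right_cancel (b := ρ x0) ?_
    rw [c2, mul_assoc t, mul_assoc t, c1]
  obtain ⟨a, ha, ha', ea⟩ := hcu (sg 2) (g1 2 (by norm_num))
  obtain ⟨b, hb, hb', eb⟩ := hcu (sg 3) (g1 3 (by norm_num))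
  obtain ⟨c, hc, hc', ec'⟩ := hcu (sg 4) (g1 4 (by norm_num))
  have hbase : inCU x0 = true ∧ inCU 33 = true := by decide +kernel
  have P : Pre t ρ s (im5 a b c) := by
    refine ⟨hs, fun k hk => ?_, fun k hk => ?_, fun k hk => ?_⟩ <;> interval_cases k
    · exact (by decide +kernel : x0 < 7680)
    · exact (by norm_num : (33 : ℕ) < 7680)
    · exact ha
    · exact hb
    · exact hc
    · exact hbase.1
    · exact hbase.2
    · exact ha'
    · exact hb'
    · exact hc'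
    · rw [g0, C.zc_eq]; exact hz
    · rw [g1']; exact hx
    · exact ea.symm
    · exact eb.symm
    · exact ec'.symm
  obtain ⟨l0, l1, l2, l3⟩ := rel_letters
  have hm : ∀ r, r < 7680 → inCU r = true → r ∈ AData.cu := fun r h h' => (cu_facts h h').1
  have h := singleCheck_ok
  simp only [singleCheck, Bool.and_eq_true, List.all_eq_true] at h
  obtain ⟨⟨s0, s1⟩, s2⟩ := h
  have r0 : relOk 0 (im5 a 0 0) = true := by
    rw [← C.relOk_im P (i := 0) (by norm_num)]
    refine relOk_congr fun k hk => ?_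
    have := l0 k hk
    fin_cases this <;> rfl
  have r1 : relOk 1 (im5 0 b 0) = true := by
    rw [← C.relOk_im P (i := 1) (by norm_num)]
    refine relOk_congr fun k hk => ?_
    have := l1 k hk
    fin_cases this <;> rfl
  have r2 : relOk 2 (im5 0 0 c) = true := by
    rw [← C.relOk_im P (i := 2) (by norm_num)]
    refine relOk_congr fun k hk => ?_
    have := l2 k hk
    fin_cases this <;> rfl
  have r3 : relOk 3 (im5 a b 0) = true := by
    rw [← C.relOk_im P (i := 3) (by norm_num)]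
    refine relOk_congr fun k hk => ?_
    have := l3 k hk
    fin_cases this <;> rfl
  have ha2 := s0 a (hm a ha ha')
  have hb2 := s1 b (hm b hb hb')
  have hc2 := s2 c (hm c hc hc')
  simp only [r0, r1, r2, Bool.not_true, Bool.false_or, List.contains_iff_mem] at ha2 hb2 hc2
  have hcube : cubeOk a b c = true := by
    simp only [cubeOk, List.all_eq_true]
    intro k hk
    have hk5 : k < 5 := by fin_cases hk <;> norm_num
    rw [Nat.beq_eq]
    have e1 := C.conj_phi P (P.im_cu k hk5)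
    rw [Nat.mod_eq_of_lt (P.im_lt k hk5)] at e1
    have c2 : inCU (phiAt (im5 a b c) (im5 a b c k)) = true := by
      obtain ⟨r, hr, hr', e⟩ := hcu _ (P.im_cu k hk5)
      have : r = phiAt (im5 a b c) (im5 a b c k) := C.inj' hr (ev_lt _ _) (e.trans e1)
      rwa [← this]
    have e2 := C.conj_phi P c2
    rw [Nat.mod_eq_of_lt (show phiAt (im5 a b c) (im5 a b c k) < 7680 from ev_lt _ _)] at e2
    refine C.inj' (ev_lt _ _) (Nat.lt_of_lt_of_le (show sg k < 7680 from ?_) le_rfl) ?_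
    · interval_cases k <;> decide +kernel
    show ρ (phiAt (im5 a b c) (phiAt (im5 a b c) (im5 a b c k))) = ρ (sg k)
    rw [← e2, ← e1, ← P.conj k hk5]
    calc s * (s * (s * ρ (sg k) * s⁻¹) * s⁻¹) * s⁻¹ = (s * s * s) * ρ (sg k) * (s * s * s)⁻¹ := by group
      _ = ρ (sg k) := by rw [hs]; group
  have ht' := tripleCheck_ok ha2 b hb2
  simp only [r3, Bool.not_true, Bool.false_or, List.all_eq_true] at ht'
  have ht'' := ht' c hc2
  simp only [C.relOk_im P (i := 4) (by norm_num), hcube, Bool.not_true, Bool.false_or, Bool.or_eq_true,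
    List.all_eq_true] at ht''
  refine ⟨a, b, c, P, fun cc hm hc => ?_⟩
  rcases ht'' with h | h
  · exact Option.isSome_iff_exists.1 h
  · simpa [hc] using h cc hm

/-- The images in case `j`. -/
def caseIm (j k : ℕ) : ℕ := (AData.caseIm.getD j []).getD k 0

/-- The class of the images decides the normal form. -/
theorem Hom.normalize (C : Hom t ρ) {s : G} {a b c : ℕ} (P : Pre t ρ s (im5 a b c))
    (hsome : ∀ cc ∈ AData.cu, twistCond a b c cc = true → ∃ j, classOf a b c = some j) :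
    ∃ j < 4, classOf a b c = some j ∧ ∃ s' : G, s' * s' * s' = 1 ∧ (∀ k < 5, s' * ρ (sg k) * s'⁻¹ = ρ (caseIm j k)) ∧
      ρ ec * s' * ρ ec * s' = ρ (AData.caseCc.getD j 0) := by
  obtain ⟨g1, -, -, g0, g1', gee, gex, g33, gei⟩ := gen_facts
  have hee : ρ ec * ρ ec = 1 := by rw [← C.mul_eq, gee, C.zero]
  have hei : (ρ ec)⁻¹ = ρ ec := inv_eq_of_mul_eq_one_right hee
  have hez : ρ ec * t = t * ρ ec := C.mem ec
  have hsz : s * t * s⁻¹ = ρ x0 := by
    have := P.conj 0 (by norm_num); rwa [g0, C.zc_eq] at this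
  have hsx : s * ρ x0 * s⁻¹ = ρ 33 := by
    have := P.conj 1 (by norm_num); rwa [g1'] at this
  have h33 : ρ 33 = t * ρ x0 := by rw [← g33, C.mul_eq, C.zc_eq]
  have hex : ρ ec * ρ x0 * ρ ec = ρ 33 := by
    rw [← gex, C.cj_eq, hei]
  have he33 : ρ ec * ρ 33 * ρ ec = ρ x0 := by
    rw [← hex, show ρ ec * (ρ ec * ρ x0 * ρ ec) * ρ ec = ρ ec * ρ ec * ρ x0 * (ρ ec * ρ ec) by group, hee,
      one_mul, mul_one]
  set E := ρ ec with hE
  -- the twist
  have m1 : s⁻¹ * ρ x0 * s = t := by rw [← hsz]; group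
  have m2 : s⁻¹ * ρ 33 * s = ρ x0 := by rw [← hsx]; group
  have m3 : s * ρ 33 * s⁻¹ = t := by
    calc s * ρ 33 * s⁻¹ = s * (s * (s * t * s⁻¹) * s⁻¹) * s⁻¹ := by rw [hsz, hsx]
      _ = (s * s * s) * t * (s * s * s)⁻¹ := by group
      _ = t := by rw [P.cube]; group
  have ct : (E * s * E * s) * t = t * (E * s * E * s) := by
    refine mul_inv_eq_iff_eq_mul.1 ?_
    calc E * s * E * s * t * (E * s * E * s)⁻¹ = E * (s * (E * (s * t * s⁻¹) * E⁻¹) * s⁻¹) * E⁻¹ := by group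
      _ = t := by rw [hsz, hei, hex, m3, hez, mul_assoc, hee, mul_one]
  have cx : (E * s * E * s) * ρ x0 = ρ x0 * (E * s * E * s) := by
    refine mul_inv_eq_iff_eq_mul.1 ?_
    calc E * s * E * s * ρ x0 * (E * s * E * s)⁻¹ = E * (s * (E * (s * ρ x0 * s⁻¹) * E⁻¹) * s⁻¹) * E⁻¹ := by group
      _ = ρ x0 := by rw [hsx, hei, he33, hsx, he33]
  obtain ⟨cc, hcc, hcc', ecc⟩ := C.exists_cu ct cx
  have hcond : twistCond a b c cc = true := by
    simp only [twistCond, Bool.and_eq_true, List.all_eq_true, Nat.beq_eq]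
    refine ⟨C.inj' (mul_lt _ _) hcc ?_, fun k hk => C.inj' (mul_lt _ _) (mul_lt _ _) ?_⟩
    · rw [C.cj_eq, ← Nat.mod_eq_of_lt hcc, ← C.conj_phi P hcc', Nat.mod_eq_of_lt hcc, ecc, ← hE]
      group
    · have hk5 : k < 5 := by fin_cases hk <;> norm_num
      have hi := P.im_cu k hk5
      obtain ⟨-, -, -, hce⟩ := cu_facts (P.im_lt k hk5) hi
      rw [C.cj_eq, C.cj_eq ec (phiAt _ _),
        ← Nat.mod_eq_of_lt (show cj ec (im5 a b c k) < 7680 from mul_lt _ _), ← C.conj_phi P hce, C.cj_eq,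
        ← P.conj k hk5, ecc, ← hE]
      group
  obtain ⟨j, hj⟩ := hsome cc (cu_facts hcc hcc').1 hcond
  have hmem := mem_classes hj
  have hs := stateCheck_ok
  simp only [stateCheck, List.all_eq_true] at hs
  have h := hs _ hmem cc (cu_facts hcc hcc').1
  simp only [hcond, Bool.not_true, Bool.false_or] at h
  cases hf : findState a b c cc with
  | none => rw [hf] at h; simp at h
  | some p =>
    obtain ⟨j', q, w⟩ := p
    rw [hf] at h
    simp only [Bool.and_eq_true, Nat.beq_eq, moveOk, List.all_eq_true, List.mem_range] at h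
    obtain ⟨⟨rfl, hj4⟩, ⟨⟨⟨⟨⟨hq, hw⟩, hu⟩, hfw⟩, hcube⟩, him⟩, htw⟩ := h
    have f_eq : ∀ r, inCU r = true → r < 7680 → ρ (phiAt (im5 a b c) r) = s * ρ r * s⁻¹ := fun r h h' => by
      rw [C.conj_phi P h, Nat.mod_eq_of_lt h']
    have hwlt : ∀ r, inCU r = true → ρ (phiAt (im5 a b c) (r % 7680)) = s * ρ r * s⁻¹ := fun r h =>
      (C.conj_phi P h).symm
    refine ⟨j', by simpa [Nat.blt] using hj4, hj, ρ q * (s * ρ w) * (ρ q)⁻¹, ?_, fun k hk => ?_, ?_⟩
    · have hW : s * ρ w * s⁻¹ * (s * (s * ρ w * s⁻¹) * s⁻¹) * ρ w = 1 := by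
        rw [← C.zero, ← hcube, C.mul_eq, C.mul_eq, f_eq _ hfw (ev_lt _ _)]
        have : ρ (phiAt (im5 a b c) w) = s * ρ w * s⁻¹ := by
          rw [← hwlt w hw]
          have hmod : w % 7680 = w ∨ 7680 ≤ w := by omega
          rcases hmod with e | e
          · rw [e]
          · rw [phiAt, phiAt, cuWord, cuWord, cuPos, cuPos, pp_mod, qp_mod]
        rw [this]
      calc ρ q * (s * ρ w) * (ρ q)⁻¹ * (ρ q * (s * ρ w) * (ρ q)⁻¹) * (ρ q * (s * ρ w) * (ρ q)⁻¹)
          = ρ q * (s * ρ w * s⁻¹ * (s * (s * ρ w * s⁻¹) * s⁻¹) * (s * s * s) * ρ w) * (ρ q)⁻¹ := by group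
        _ = 1 := by rw [P.cube, mul_one, hW, mul_one, mul_inv_cancel]
    · obtain ⟨hin, e⟩ := him k hk
      rw [show caseIm j' k = (AData.caseIm.getD j' []).getD k 0 from rfl, ← e, C.cj_eq,
        f_eq _ hin (mul_lt _ _), C.cj_eq, C.cj_eq, C.inv_eq]
      group
    · have hfu := f_eq _ hu (mul_lt _ _)
      rw [← htw, C.mul_eq, C.mul_eq, C.mul_eq, C.cj_eq, C.cj_eq, hfu, C.mul_eq, C.mul_eq, C.cj_eq, C.inv_eq,
        ecc, ← hE, hei]
      have hee2 : ∀ x : G, E * (E * x) = x := fun x => by rw [← mul_assoc, hee, one_mul]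
      simp only [mul_assoc, mul_inv_rev, inv_inv, hei, hee2, inv_mul_cancel_left, mul_inv_cancel_left]

end Cfsg.Agent.HSLocal
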