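import Cfsg.Agent.Lib.HSLocal.Close.AutoStates

/-!
The checks, evaluated.
-/

set_option autoImplicit false
set_option maxRecDepth 100000

namespace Cfsg.Agent.HSLocal

theorem cuCheck_ok : cuCheck = true := by decide +kernel
theorem genCheck_ok : genCheck = true := by decide +kernel
theorem singleCheck_ok : singleCheck = true := by decide +kernel
theorem img2_length : AData.img2.length = 32 := by decide +kernel

theorem tripleCheck_ok {a : ℕ} (ha : a ∈ AData.img2) : ∀ b ∈ AData.img3, (!relOk 3 (im5 a b 0) ||
    AData.img4.all fun c => !relOk 4 (im5 a b c) || !cubeOk a b c || (classOf a b c).isSome ||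
      AData.cu.all fun cc => !twistCond a b c cc) = true := by
  obtain ⟨i, hi, rfl⟩ := List.getElem_of_mem ha
  have hlen : i < 32 := img2_length ▸ hi
  have key : ∀ lo, tripleCheck lo = true → lo ≤ i → i < lo + 4 →
      AData.img2[i] ∈ (AData.img2.drop lo).take 4 := by
    intro lo _ h1 h2
    rw [List.mem_take_iff_getElem]
    refine ⟨i - lo, by rw [List.length_drop]; omega, ?_⟩
    simp [List.getElem_drop, Nat.add_sub_cancel' h1]
    rfl
  have run : ∀ lo, tripleCheck lo = true → lo ≤ i → i < lo + 4 → _ := fun lo h h1 h2 =>
    List.all_eq_true.1 (List.all_eq_true.1 h _ (key lo h h1 h2))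
  by_cases h1 : i < 4; · exact run 0 triplesOne (by omega) (by omega)
  by_cases h2 : i < 8; · exact run 4 triplesTwo (by omega) (by omega)
  by_cases h3 : i < 12; · exact run 8 triplesThree (by omega) (by omega)
  by_cases h4 : i < 16; · exact run 12 triplesFour (by omega) (by omega)
  by_cases h5 : i < 20; · exact run 16 triplesFive (by omega) (by omega)
  by_cases h6 : i < 24; · exact run 20 triplesSix (by omega) (by omega)
  by_cases h7 : i < 28; · exact run 24 triplesSeven (by omega) (by omega)
  exact run 28 triplesEight (by omega) (by omega)
theorem outerCheck_ok : outerCheck = true := by decide +kernel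
theorem autZero_ok : autCheck autZero 0 = true := by decide +kernel
theorem autOne_ok : autCheck autOne 1 = true := by decide +kernel

end Cfsg.Agent.HSLocal
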