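import Cfsg.Agent.Lib.HSLocal.Close.Frame

/-!
Checks for the normalization of an element of order three permuting `t`, `x 0` and their product: the
possible automorphisms of the centralizer of `x 0`, up to conjugation and change by the central four-group,
fall into four classes.
-/

set_option autoImplicit false

namespace Cfsg.Agent.HSLocal

/-- The five generators of the centralizer of `x 0`. -/
def sg (k : ℕ) : ℕ := AData.sgen.getD k 0

/-- The position of an element of the centralizer of `x 0`. -/
def cuPos (r : ℕ) : ℕ := rget AData.cuIdx 8 (pp r) (qp r)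

/-- A word in the five generators. -/
def cuWord (r : ℕ) : List ℕ := AData.words.getD (cuPos r) []

/-- The image under the map given on the five generators. -/
def phiAt (im : ℕ → ℕ) (r : ℕ) : ℕ := ev im (cuWord r)

/-- The images of the five generators. -/
def im5 (a b c k : ℕ) : ℕ := [x0, 33, a, b, c].getD k 0

/-- The chosen relations. -/
def relAt (i : ℕ) : List ℕ × List ℕ := AData.rels.getD i ([], [])

/-- A relation holds at given images. -/
def relOk (i : ℕ) (im : ℕ → ℕ) : Bool := Nat.beq (ev im (relAt i).1) (ev im (relAt i).2)

/-- The centralizer of `x 0` has the listed elements and words. -/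
def cuCheck : Bool :=
  (List.range 7680).all fun r => !inCU r ||
    (Nat.beq (AData.cu.getD (cuPos r) 0) r && Nat.blt (cuPos r) AData.cu.length &&
      Nat.beq (ev sg (cuWord r)) r && (cuWord r).all (fun k => Nat.blt k 5) && inCU (cj ec r))

/-- The generators lie in the centralizer of `x 0`, and the relations hold. -/
def genCheck : Bool :=
  ((List.range 5).all fun k => inCU (sg k)) && ((List.range 5).all fun i => relOk i sg) &&
    ((List.range 5).all fun i => ((relAt i).1 ++ (relAt i).2).all fun k => Nat.blt k 5) &&
    Nat.beq (sg 0) zc && Nat.beq (sg 1) x0 && Nat.beq (mul ec ec) 0 && Nat.beq (cj ec x0) 33 &&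
    Nat.beq (mul zc x0) 33 && Nat.beq (inv ec) ec

/-- The possible images of a single generator. -/
def singleCheck : Bool :=
  (AData.cu.all fun r => !relOk 0 (im5 r 0 0) || AData.img2.contains r) &&
    (AData.cu.all fun r => !relOk 1 (im5 0 r 0) || AData.img3.contains r) &&
    (AData.cu.all fun r => !relOk 2 (im5 0 0 r) || AData.img4.contains r)

/-- The key of an entry. -/
def keyB (a b c : ℕ) (e : ℕ × ℕ × ℕ) : Bool := Nat.beq e.1 a && Nat.beq e.2.1 b && Nat.beq e.2.2 c

/-- The class of the images of the three generators. -/
def classOf (a b c : ℕ) : Option ℕ :=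
  (AData.classes.find? fun e => keyB a b c (e.1, e.2.1, e.2.2.1)).map fun e => e.2.2.2

/-- The map given on the generators has order dividing three. -/
def cubeOk (a b c : ℕ) : Bool :=
  [2, 3, 4].all fun k => Nat.beq (phiAt (im5 a b c) (phiAt (im5 a b c) (im5 a b c k))) (sg k)

/-- The twist is compatible with the automorphism. -/
def twistCond (a b c cc : ℕ) : Bool :=
  Nat.beq (cj ec (phiAt (im5 a b c) cc)) cc && [2, 3, 4].all fun k =>
    Nat.beq (cj cc (sg k)) (cj ec (phiAt (im5 a b c) (cj ec (im5 a b c k))))

/-- The possible triples have a class or no compatible twist. -/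
def tripleCheck (lo : ℕ) : Bool :=
  ((AData.img2.drop lo).take 4).all fun a => AData.img3.all fun b => !relOk 3 (im5 a b 0) ||
    AData.img4.all fun c => !relOk 4 (im5 a b c) || !cubeOk a b c || (classOf a b c).isSome ||
      AData.cu.all fun cc => !twistCond a b c cc

/-- The data of a normalization. -/
def findState (a b c cc : ℕ) : Option (ℕ × ℕ × ℕ) :=
  (AData.states.find? fun e =>
    Nat.beq e.1.2.2.2 cc && keyB a b c (e.1.1, e.1.2.1, e.1.2.2.1)).map fun e => e.2

/-- Replacing `s` by `q * s * w * q⁻¹` gives the case `j`. -/
def moveOk (a b c cc j q w : ℕ) : Bool :=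
  let f := phiAt (im5 a b c)
  let u := mul (mul w (inv q)) (cj ec q)
  inCU q && inCU w && inCU u && inCU (f w) &&
    Nat.beq (mul (mul (f w) (f (f w))) w) 0 &&
    ((List.range 5).all fun k => inCU (cj w (cj (inv q) (sg k))) &&
      Nat.beq (cj q (f (cj w (cj (inv q) (sg k))))) ((AData.caseIm.getD j []).getD k 0)) &&
    Nat.beq (mul (mul (mul (cj ec q) (cj ec (f u))) cc) (mul w (inv q))) (AData.caseCc.getD j 0)

/-- Every compatible state is normalized by the table. -/
def stateCheck : Bool :=
  AData.classes.all fun e => AData.cu.all fun cc => !twistCond e.1 e.2.1 e.2.2.1 cc ||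
    match findState e.1 e.2.1 e.2.2.1 cc with
    | none => false
    | some p => Nat.beq p.1 e.2.2.2 && Nat.blt p.1 4 && moveOk e.1 e.2.1 e.2.2.1 cc p.1 p.2.1 p.2.2

/-- The images of the three generators in case `j` after the change of coordinates. -/
def outerIm (j k : ℕ) : ℕ :=
  outerInv (phiAt (fun i => (AData.caseIm.getD j []).getD i 0) (outer (sg k)))

/-- The last two classes are exchanged with the first two by the outer automorphism. -/
def outerCheck : Bool :=
  [2, 3].all fun j =>
    ((List.range 5).all fun k => inCU (outer (sg k)) && Nat.blt (outerIm j k) 7680) &&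
      Nat.beq (outerIm j 0) x0 && Nat.beq (outerIm j 1) 33 &&
      match classOf (outerIm j 2) (outerIm j 3) (outerIm j 4) with
      | none => false
      | some i => Nat.blt i 2

/-- The tables of the two remaining cases agree with their images on the generators. -/
def autCheck (A : Auto) (j : ℕ) : Bool :=
  (List.range 7680).all fun r => !inCU r ||
    (Nat.beq (A.phi r) (phiAt (fun i => (AData.caseIm.getD j []).getD i 0) r) &&
      inCU (A.phinv r) && Nat.beq (A.phi (A.phinv r)) r)

end Cfsg.Agent.HSLocal
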