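import Cfsg.Agent.Lib.HSLocal.Close.AutoDefs
import Cfsg.Agent.Lib.HSLocal.Close.AutoTriplesB

/-!
The checks, evaluated.
-/

set_option autoImplicit false
set_option maxRecDepth 100000

namespace Cfsg.Agent.HSLocal

theorem stateCheck_ok : stateCheck = true := by decide +kernel

end Cfsg.Agent.HSLocal
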