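import Cfsg.Agent.Lib.HSLocal.Close.CloseDefs

/-!
The closing certificate, evaluated.
-/

set_option autoImplicit false
set_option maxRecDepth 100000

namespace Cfsg.Agent.HSLocal

theorem closing_ok : closingOk = true := by decide +kernel

theorem size_ok : sizeOk = true := by decide +kernel

theorem cover_ok0 : coverNode Closing.cover0 (nodeAt 0) = true := by decide +kernel

theorem cover_ok1 : coverNode Closing.cover1 (nodeAt 1) = true := by decide +kernel

theorem cover_ok2 : coverNode Closing.cover2 (nodeAt 2) = true := by decide +kernel


end Cfsg.Agent.HSLocal
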