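import Cfsg.Agent.Lib.HSLocal.Close.CloseDefs
import Cfsg.Agent.Lib.HSLocal.Close.CloseChecksA

/-!
The closing certificate, evaluated.
-/

set_option autoImplicit false
set_option maxRecDepth 100000

namespace Cfsg.Agent.HSLocal

theorem cover_ok3 : coverNode Closing.cover3 (nodeAt 3) = true := by decide +kernel

theorem cover_ok4 : coverNode Closing.cover4 (nodeAt 4) = true := by decide +kernel

theorem cover_ok5 : coverNode Closing.cover5 (nodeAt 5) = true := by decide +kernel


end Cfsg.Agent.HSLocal
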