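import Cfsg.Agent.Lib.HSLocal.Close.Collapse
import Cfsg.Agent.Lib.HSLocal.Close.CloseChecksC

/-!
The group generated by codes and an element `s` with the relations of the second case has at most
`5775 * 7680` elements.
-/

set_option autoImplicit false

namespace Cfsg.Agent.HSLocal

universe v

theorem elem_fixes {X P : Type*} [Group P] [MulAction P X] {o : X} {ρ : ℕ → P} {s : P}
    (F : Acts o ρ s autOne) {R : List Fact} {Q : ℕ → X} (hQ : ∀ f ∈ R, Holds ρ s Q f) {D : NodeData}
    (h : stabOk R D = true) : 0 < D.2.2.1.length ∧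
      ∀ k < D.2.2.1.length, elemAt D k < 7680 ∧ ρ (elemAt D k) • Q D.1 = Q D.1 ∧
        ∀ l < k, elemAt D k ≠ elemAt D l := by
  simp only [stabOk, Bool.and_eq_true] at h
  obtain ⟨⟨⟨⟨hg, h0⟩, hpos⟩, hk⟩, hnd⟩ := h
  have hgen : ∀ q < D.2.1.length, ρ (D.2.1.getD q (0, [])).1 • Q D.1 = Q D.1 := by
    intro q hq
    rw [List.getD_eq_getElem _ _ hq]
    have hh := List.all_eq_true.1 hg _ (List.getElem_mem hq)
    cases hw : walk autOne R (D.2.1[q]).2 [] 0 D.1 with
    | none => rw [hw] at hh; simp at hh
    | some w =>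
      rw [hw] at hh
      simp only [Bool.and_eq_true, Nat.beq_eq] at hh
      have := F.walk_sound Q hQ _ _ _ _ hw
      rw [hh.1, hh.2, pt, pt, F.zero, one_smul] at this
      simpa [wordG] using this
  refine ⟨Nat.le_of_ble_eq_true hpos, fun k => ?_⟩
  induction k using Nat.strong_induction_on with
  | _ k ih =>
    intro hlt
    have hh := all_range hk hlt
    simp only [Bool.and_eq_true, Bool.or_eq_true] at hh
    refine ⟨by simpa [Nat.blt] using hh.1, ?_, fun l hl => ?_⟩
    · rcases hh.2 with e | e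
      · rw [Nat.eq_of_beq_eq_true e, Nat.eq_of_beq_eq_true h0, F.zero, one_smul]
      · obtain ⟨⟨e1, e2⟩, e3⟩ := e
        simp only [Nat.blt_eq] at e1 e2
        rw [show elemAt D k = (D.2.2.1.getD k (0, 0, 0)).1 from rfl, Nat.eq_of_beq_eq_true e3, F.mul_eq, mul_smul,
          hgen _ e2, (ih _ e1 (lt_trans e1 hlt)).2.1]
    · have := all_range (all_range hnd hlt) hl
      intro e
      simp [e] at this

theorem node_of_mem {D : NodeData} (h : D ∈ Closing.nodes) : ∃ n < 8, nodeAt n = D := by
  obtain ⟨n, hn, rfl⟩ := List.getElem_of_mem h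
  have h8 := size_ok
  simp only [sizeOk, Bool.and_eq_true, Nat.beq_eq] at h8
  exact ⟨n, h8.2 ▸ hn, List.getD_eq_getElem _ _ hn⟩

theorem cover_mem {D : NodeData} (h : D ∈ Closing.nodes) : ∃ T, coverNode T D = true := by
  obtain ⟨n, hn, rfl⟩ := node_of_mem h
  interval_cases n
  exacts [⟨_, cover_ok0⟩, ⟨_, cover_ok1⟩, ⟨_, cover_ok2⟩, ⟨_, cover_ok3⟩, ⟨_, cover_ok4⟩, ⟨_, cover_ok5⟩,
    ⟨_, cover_ok6⟩, ⟨_, cover_ok7⟩]

theorem sum_toFinset_le_sum {α : Type*} [DecidableEq α] (f : α → ℕ) :
    ∀ l : List α, ∑ x ∈ l.toFinset, f x ≤ (l.map f).sum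
  | [] => by simp
  | a :: l => by
    rw [List.toFinset_cons, List.map_cons, List.sum_cons]
    by_cases h : a ∈ l.toFinset
    · rw [Finset.insert_eq_of_mem h]
      exact le_trans (sum_toFinset_le_sum f l) (Nat.le_add_left _ _)
    · rw [Finset.sum_insert h]
      exact Nat.add_le_add_left (sum_toFinset_le_sum f l) _

/-- An orbit is small when enough codes fix its point. -/
theorem ncard_orbit_le {X P : Type*} [Group P] [MulAction P X] {ρ : ℕ → P} {x : X}
    (hmul : ∀ a b, ρ (mul a b) = ρ a * ρ b) (hcancel : ∀ a < 7680, ∀ e f, e < 7680 → f < 7680 →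
      mul a e = mul a f → e = f)
    {n : ℕ} (hn : 0 < n) (el : ℕ → ℕ) (hel : ∀ k < n, el k < 7680 ∧ ρ (el k) • x = x ∧ ∀ l < k, el k ≠ el l) :
    ((fun a => ρ a • x) '' Set.Iio 7680).ncard ≤ 7680 / n := by
  classical
  rw [Nat.le_div_iff_mul_le hn]
  let I : Finset X := (Finset.range 7680).image fun a => ρ a • x
  have hI : ((fun a => ρ a • x) '' Set.Iio 7680) = (I : Set X) := by
    simp only [I, Finset.coe_image, Finset.coe_range]
  rw [hI, Set.ncard_coe_finset]
  have h := Finset.mul_card_image_le_card (Finset.range 7680) n (f := fun a => ρ a • x) (fun b hb => ?_)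
  · rw [Finset.card_range] at h
    rw [mul_comm]
    exact h
  · obtain ⟨a, ha, rfl⟩ := Finset.mem_image.1 hb
    rw [Finset.mem_range] at ha
    refine le_trans (le_of_eq ?_) (Finset.card_le_card (s := (Finset.range n).image fun k => mul a (el k)) ?_)
    · rw [Finset.card_image_of_injOn, Finset.card_range]
      intro k hk l hl e
      simp only [Finset.coe_range, Set.mem_Iio] at hk hl
      have e' := hcancel a ha _ _ (hel k hk).1 (hel l hl).1 e
      by_contra hne
      rcases Nat.lt_or_gt_of_ne hne with h | h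
      · exact (hel l hl).2.2 k h e'.symm
      · exact (hel k hk).2.2 l h e'
    · intro y hy
      obtain ⟨k, hk, rfl⟩ := Finset.mem_image.1 hy
      rw [Finset.mem_range] at hk
      simp only [Finset.mem_filter, Finset.mem_range]
      exact ⟨mul_lt _ _, by rw [hmul, mul_smul, (hel k hk).2.1]⟩

/-- The bound on the group generated by the codes and `s`. -/
theorem card_closure_le {P : Type v} [Group P] [Finite P] {ρ : ℕ → P} {s : P} (F : Rels ρ s autOne ccOne)
    (hback : ∀ r, inCU r = true → inCU (autOne.phinv r) = true ∧ autOne.phi (autOne.phinv r) = r % 7680)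
    (hcancel : ∀ a < 7680, ∀ e f, e < 7680 → f < 7680 → mul a e = mul a f → e = f)
    (hword : wordG ρ s wordOne = ρ dOne) :
    Nat.card ↥(Subgroup.closure (insert s (Set.range ρ))) ≤ 44352000 := by
  classical
  have hrange : Set.range ρ = ρ '' Set.Iio 7680 := by
    refine Set.Subset.antisymm ?_ (Set.image_subset_range _ _)
    rintro _ ⟨a, rfl⟩
    exact ⟨a % 7680, Nat.mod_lt _ (by norm_num), F.mod_eq a⟩
  let K : Subgroup P :=
    { carrier := Set.range ρ
      one_mem' := ⟨0, F.zero⟩
      mul_mem' := by rintro _ _ ⟨a, rfl⟩ ⟨b, rfl⟩; exact ⟨mul a b, F.mul_eq a b⟩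
      inv_mem' := by rintro _ ⟨a, rfl⟩; exact ⟨inv a, F.inv_eq a⟩ }
  let X := P ⧸ K
  let o : X := QuotientGroup.mk 1
  have hso : ∀ g : P, g • o = o ↔ g ∈ K := fun g => by
    show (QuotientGroup.mk (g * 1) : X) = QuotientGroup.mk 1 ↔ _
    rw [mul_one, QuotientGroup.eq, mul_one, Subgroup.inv_mem_iff]
  have A := F.acts hback (o := o) fun a => (hso _).2 ⟨a, rfl⟩
  have hc := closing_ok
  unfold closingOk at hc
  cases hR : Closing.cert.facts autOne (relsOf ccOne wordOne dOne) with
  | none => rw [hR] at hc; simp at hc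
  | some R =>
    rw [hR] at hc
    simp only [Bool.and_eq_true] at hc
    obtain ⟨hnodes, hbase⟩ := hc
    obtain ⟨Q, hQ0, hQ⟩ := A.facts_sound (F.rels_true hword) hR
    let orb : ℕ → Set X := fun i => (fun a => ρ a • Q i) '' Set.Iio 7680
    have orb_mem : ∀ a i, ρ a • Q i ∈ orb i := fun a i =>
      ⟨a % 7680, Nat.mod_lt _ (by norm_num), by show ρ (a % 7680) • Q i = _; rw [F.mod_eq]⟩
    let N := Closing.nodes.toFinset
    let S : Set X := {o} ∪ ⋃ D ∈ N, orb D.1
    have hlive : ∀ i, isLive i = true → ∀ a, ρ a • Q i ∈ S := by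
      intro i hi a
      simp only [isLive, Bool.or_eq_true, List.any_eq_true, Nat.beq_eq] at hi
      rcases hi with rfl | ⟨D, hD, rfl⟩
      · exact Or.inl (by rw [hQ0, A.fixes]; rfl)
      · exact Or.inr (Set.mem_biUnion (x := D) (by simpa [N] using hD) (orb_mem a D.1))
    have hS : S.ncard ≤ 5775 := by
      have h8 := size_ok
      simp only [sizeOk, Bool.and_eq_true, Nat.beq_eq] at h8
      refine (Set.ncard_union_le _ _).trans ?_
      rw [Set.ncard_singleton]
      have h1 : (⋃ D ∈ N, orb D.1).ncard ≤ ∑ D ∈ N, 7680 / D.2.2.1.length := by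
        refine (Finset.set_ncard_biUnion_le N _).trans (Finset.sum_le_sum fun D hD => ?_)
        have hD' : D ∈ Closing.nodes := by simpa [N] using hD
        have hh := List.all_eq_true.1 hnodes D hD'
        rw [Bool.and_eq_true] at hh
        obtain ⟨hpos, hel⟩ := elem_fixes A hQ hh.1
        exact ncard_orbit_le F.mul_eq hcancel hpos (elemAt D) hel
      have h2 : ∑ D ∈ N, 7680 / D.2.2.1.length ≤ 5774 := by
        rw [← h8.1]
        exact sum_toFinset_le_sum _ _
      omega
    have hmap : ∀ x ∈ S, s • x ∈ S := by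
      rintro x (rfl | hx)
      · cases hw : walk autOne R Closing.baseWalk [.s] 0 0 with
        | none => rw [hw] at hbase; simp at hbase
        | some w =>
          rw [hw] at hbase
          have e := A.walk_sound Q hQ _ _ _ _ hw
          rw [pt, pt, F.zero, one_smul, hQ0] at e
          have e' : s • o = ρ w.1 • Q w.2 := by rw [e]; simp [wordG, letterG]
          rw [e']
          exact hlive _ hbase _
      · simp only [Set.mem_iUnion] at hx
        obtain ⟨D, hD, a, ha, rfl⟩ := hx
        have hD' : D ∈ Closing.nodes := by simpa [N] using hD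
        have hh := List.all_eq_true.1 hnodes D hD'
        rw [Bool.and_eq_true] at hh
        obtain ⟨T, hT⟩ := cover_mem hD'
        have hc' := all_range hT (show a < 7680 from ha)
        simp only [Bool.and_eq_true, Nat.blt_eq] at hc'
        obtain ⟨⟨he, hr⟩, hcu⟩ := hc'
        obtain ⟨-, hel⟩ := elem_fixes A hQ hh.1
        set e := elemAt D (rget T 16 (pp a) (qp a) % 256)
        set k := rget T 16 (pp a) (qp a) / 256
        have hst := List.all_eq_true.1 hh.2 _ (List.getElem_mem hr)
        rw [List.getD_eq_getElem _ _ hr] at hcu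
        cases hw : walk autOne R (D.2.2.2[k]).2 [.s] (D.2.2.2[k]).1 D.1 with
        | none => rw [hw] at hst; simp at hst
        | some w =>
          rw [hw] at hst
          have e1 := A.walk_sound Q hQ _ _ _ _ hw
          set c := mul (mul a (inv e)) (inv (D.2.2.2[k]).1) with hcdef
          have hfix : (ρ e)⁻¹ • Q D.1 = Q D.1 := inv_smul_eq_iff.2 (hel _ he).2.1.symm
          have ea : ρ a • Q D.1 = ρ c • ρ (D.2.2.2[k]).1 • Q D.1 := by
            rw [← mul_smul, hcdef, F.mul_eq, F.mul_eq, F.inv_eq, F.inv_eq, inv_mul_cancel_right, mul_smul, hfix]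
          have e2 : s • ρ (D.2.2.2[k]).1 • Q D.1 = ρ w.1 • Q w.2 := by
            rw [pt, pt] at e1
            rw [e1]; simp [wordG, letterG]
          show s • ρ a • Q D.1 ∈ S
          rw [ea, ← mul_smul, F.sconj c hcu, mul_smul, e2, ← mul_smul, ← F.mul_eq]
          exact hlive _ hst _
    have hρ : ∀ a, ∀ x ∈ S, ρ a • x ∈ S := by
      rintro a x (rfl | hx)
      · rw [A.fixes]; exact Or.inl rfl
      · simp only [Set.mem_iUnion] at hx
        obtain ⟨D, hD, b, -, rfl⟩ := hx
        refine Or.inr (Set.mem_biUnion (x := D) hD ?_)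
        show ρ a • ρ b • Q D.1 ∈ orb D.1
        rw [← mul_smul, ← F.mul_eq]
        exact orb_mem _ _
    set Dg := Subgroup.closure (insert s (Set.range ρ)) with hDg
    have hclosed : ∀ g ∈ Dg, (∀ x ∈ S, g • x ∈ S) := by
      intro g hg
      have hg' : g ∈ (Dg.toSubmonoid : Submonoid P) := hg
      rw [hDg, Subgroup.closure_toSubmonoid_of_finite] at hg'
      clear hg
      induction hg' using Submonoid.closure_induction with
      | mem x hx =>
        rcases hx with rfl | ⟨a, rfl⟩
        · exact hmap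
        · exact hρ a
      | one => intro x hx; rwa [one_smul]
      | mul x y _ _ hx hy => intro z hz; rw [mul_smul]; exact hx _ (hy _ hz)
    have horbit : (MulAction.orbit Dg o).ncard ≤ 5775 := by
      refine le_trans (Set.ncard_le_ncard ?_ (Set.toFinite _)) hS
      rintro _ ⟨g, rfl⟩
      exact hclosed g g.2 o (Or.inl rfl)
    have hstab : Nat.card ↥(MulAction.stabilizer Dg o) ≤ 7680 := by
      let f : ↥(MulAction.stabilizer Dg o) → ↥K := fun g => ⟨g.1.1, (hso _).1 g.2⟩
      have hf : Function.Injective f := fun a b e => Subtype.ext (Subtype.ext (by simpa [f] using e))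
      refine (Nat.card_le_card_of_injective f hf).trans ?_
      let g : Fin 7680 → ↥K := fun a => ⟨ρ a, a, rfl⟩
      have hgs : Function.Surjective g := by
        rintro ⟨_, a, rfl⟩
        exact ⟨⟨a % 7680, Nat.mod_lt _ (by norm_num)⟩, Subtype.ext (F.mod_eq a)⟩
      simpa using Nat.card_le_card_of_surjective g hgs
    rw [← Subgroup.card_mul_index (MulAction.stabilizer Dg o), MulAction.index_stabilizer]
    calc _ ≤ 7680 * 5775 := Nat.mul_le_mul hstab horbit
      _ = 44352000 := by norm_num

end Cfsg.Agent.HSLocal
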