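import Cfsg.Agent.Lib.HSLocal.Close.Frame
import Cfsg.Agent.Lib.HSLocal.Close.Closing

/-!
Checks of the closing certificate: the points reached from the base point fall into nine orbits of the
codes, of sizes adding up to 5775, and `s` maps their union into itself.
-/

set_option autoImplicit false

namespace Cfsg.Agent.HSLocal

/-- The data of a node. -/
abbrev NodeData : Type := ℕ × List (ℕ × List Move) × List (ℕ × ℕ × ℕ) × List (ℕ × List Move)

/-- A node by number. -/
def nodeAt (n : ℕ) : NodeData := Closing.nodes.getD n (0, [], [], [])

/-- The elements of a node. -/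
def elemAt (D : NodeData) (k : ℕ) : ℕ := (D.2.2.1.getD k (0, 0, 0)).1

/-- The live nodes. -/
def isLive (i : ℕ) : Bool := Nat.beq i 0 || Closing.nodes.any fun D => Nat.beq D.1 i

/-- The generators fix the node, the elements are their products and differ. -/
def stabOk (F : List Fact) (D : NodeData) : Bool :=
  (D.2.1.all fun g => match walk autOne F g.2 [] 0 D.1 with
    | none => false
    | some w => Nat.beq w.1 g.1 && Nat.beq w.2 D.1) &&
  Nat.beq (elemAt D 0) 0 && Nat.blt 0 D.2.2.1.length &&
  ((List.range D.2.2.1.length).all fun k => Nat.blt (elemAt D k) 7680 && (Nat.beq k 0 ||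
    let e := D.2.2.1.getD k (0, 0, 0)
    Nat.blt e.2.1 k && Nat.blt e.2.2 D.2.1.length &&
      Nat.beq e.1 (mul (elemAt D e.2.1) (D.2.1.getD e.2.2 (0, [])).1))) &&
  ((List.range D.2.2.1.length).all fun k => (List.range k).all fun l => !Nat.beq (elemAt D k) (elemAt D l))

/-- `s` maps the representatives to live nodes. -/
def stepsOk (F : List Fact) (D : NodeData) : Bool :=
  D.2.2.2.all fun r => match walk autOne F r.2 [.s] r.1 D.1 with
    | none => false
    | some w => isLive w.2

/-- Every code is an element of the centralizer of `x 0`, a representative and an element. -/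
def coverNode (T : List (List ℕ)) (D : NodeData) : Bool :=
  (List.range 7680).all fun a =>
    let w := rget T 16 (pp a) (qp a)
    Nat.blt (w % 256) D.2.2.1.length && Nat.blt (w / 256) D.2.2.2.length &&
      inCU (mul (mul a (inv (elemAt D (w % 256)))) (inv (D.2.2.2.getD (w / 256) (0, [])).1))

/-- The checks on the facts. -/
def closingOk : Bool :=
  match Closing.cert.facts autOne (relsOf ccOne wordOne dOne) with
  | none => false
  | some F => (Closing.nodes.all fun D => stabOk F D && stepsOk F D) &&
    match walk autOne F Closing.baseWalk [.s] 0 0 with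
    | none => false
    | some w => isLive w.2

/-- The orbit lengths add up. -/
def sizeOk : Bool :=
  Nat.beq ((Closing.nodes.map fun D => 7680 / D.2.2.1.length).sum) 5774 && Nat.beq Closing.nodes.length 8

end Cfsg.Agent.HSLocal
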