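import Cfsg.Agent.Lib.HSLocal.Close.CollapseChecksC

/-!
The first case does not occur, and in the second the word takes the value `dOne`.
-/

set_option autoImplicit false

namespace Cfsg.Agent.HSLocal

universe v w

variable {G : Type v} [Group G] {t : G} {ρ : ℕ → G} {s : G} {A : Auto} {cc : ℕ}

theorem wordG_two (a b : Letter) : wordG ρ s [a, b] = letterG ρ s b * letterG ρ s a := by simp [wordG]

theorem Rels.inv_eq (F : Rels ρ s A cc) (a : ℕ) : ρ (inv a) = (ρ a)⁻¹ := by
  have h : inv a = inv (a % 7680) := by simp only [inv, qp_mod, pp_mod]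
  rw [h, ← F.mod_eq a]
  exact eq_inv_of_mul_eq_one_left (by rw [← F.mul_eq, (inv_ok _ (Nat.mod_lt a (by norm_num))).2, F.zero])

/-- The shared relations hold. -/
theorem Rels.rels_true (F : Rels ρ s A cc) {L : List Letter} {d : ℕ} (hd : wordG ρ s L = ρ d) :
    ∀ M ∈ relsOf cc L d, wordG ρ s M = 1 := by
  intro M hM
  simp only [relsOf, List.mem_cons, List.not_mem_nil, or_false] at hM
  rcases hM with rfl | rfl | rfl | rfl | rfl
  · simp [wordG, letterG, F.cube]
  · simp only [wordG, letterG, one_mul]
    rw [F.inv_eq, F.twist, mul_inv_cancel]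
  · rw [wordG, hd, letterG, F.inv_eq, mul_inv_cancel]
  · simp [wordG, letterG]
  · simp [wordG, letterG]

/-- The checker applies to any action in which the codes fix the base point. -/
theorem Rels.acts (F : Rels ρ s A cc) (hback : ∀ r, inCU r = true → inCU (A.phinv r) = true ∧ A.phi (A.phinv r) = r % 7680)
    {X : Type w} [MulAction G X] {o : X} (ho : ∀ a, ρ a • o = o) : Acts o ρ s A :=
  ⟨F.mul_eq, F.zero, F.mod_eq, ho, F.sconj, hback⟩

/-- The facts of a certificate hold. -/
theorem Acts.facts_sound {X : Type w} [MulAction G X] {o : X} (F : Acts o ρ s A) {rels : List (List Letter)}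
    (hrels : ∀ M ∈ rels, wordG ρ s M = 1) {c : Cert} {R : List Fact} (h : c.facts A rels = some R) :
    ∃ P : ℕ → X, P 0 = o ∧ ∀ f ∈ R, Holds ρ s P f := by
  unfold Cert.facts at h
  cases hD : defFacts c.defs 1 with
  | none => rw [hD] at h; simp at h
  | some D =>
    rw [hD] at h
    simp only at h
    obtain ⟨P, hP, hDs⟩ := F.defFacts_sound c.defs 1 (fun _ => o) hD
    have hP0 : P 0 = o := hP 0 (by norm_num)
    refine ⟨P, hP0, F.deriveAll_sound P hrels c.cmds _ (fun f hf => ?_) h⟩
    rcases List.mem_append.1 hf with hf | hf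
    · simp only [initFacts, List.mem_cons, List.not_mem_nil, or_false] at hf
      rcases hf with rfl | rfl <;>
      · simp only [Holds, Bool.false_eq_true, if_false, pt, hP0, F.zero, one_smul]
        exact F.fixes _
    · exact hDs f hf

/-- A collapse makes `s` fix the base point. -/
theorem Acts.collapse_sound {X : Type w} [MulAction G X] {o : X} (F : Acts o ρ s A) {rels : List (List Letter)}
    (hrels : ∀ M ∈ rels, wordG ρ s M = 1) {c : Cert} {ms : List Move} (h : c.collapse A rels ms = true) :
    s • o = o := by
  unfold Cert.collapse at h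
  cases hR : c.facts A rels with
  | none => rw [hR] at h; simp at h
  | some R =>
    rw [hR] at h
    simp only at h
    obtain ⟨P, hP0, hF⟩ := F.facts_sound hrels hR
    cases hw : walk A R ms [.s] 0 0 with
    | none => rw [hw] at h; simp at h
    | some w =>
      rw [hw] at h
      simp only at h
      have ew := F.walk_sound P hF _ _ _ _ hw
      rw [Nat.eq_of_beq_eq_true h, pt, pt, hP0, F.fixes, F.fixes] at ew
      simpa [wordG, letterG] using ew.symm

/-- Carrying a code is conjugation by the word. -/
theorem carry_sound (F : Rels ρ s A cc) :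
    ∀ (L : List Letter) (y y' : ℕ), carry A L y = some y' → wordG ρ s L * ρ y * (wordG ρ s L)⁻¹ = ρ y'
  | [], y, y', h => by simp [carry] at h; subst h; simp [wordG]
  | .code g :: L, y, y', h => by
    rw [carry] at h
    rw [← carry_sound F L _ y' h, cj, F.mul_eq, F.mul_eq, F.inv_eq, wordG, letterG]
    group
  | .s :: L, y, y', h => by
    rw [carry] at h
    split at h
    · rename_i hy
      rw [← carry_sound F L _ y' h, show ρ (A.phi y) = s * ρ y * s⁻¹ by rw [F.sconj y hy]; group, wordG, letterG]
      group
    · simp at h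
  | .si :: L, y, y', h => by simp [carry] at h

theorem phi_zc : autZero.phi zc = x0 ∧ autOne.phi zc = x0 ∧ inCU zc = true := by decide +kernel

/-- The value of the word is covered by the certificates, which all collapse. -/
theorem Hom.value (C : Hom t ρ) (F : Rels ρ s A cc)
    (hback : ∀ r, inCU r = true → inCU (A.phinv r) = true ∧ A.phi (A.phinv r) = r % 7680) (hphi : A.phi zc = x0)
    {L : List Letter} {g : ℕ} {extra : List ℕ} {cs : List (Cert × List Move × List ℕ)}
    (hcov : coverOk A L g extra cs = true) (hcs : cs.all (certOk A cc L) = true) :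
    ∃ d ∈ extra, wordG ρ s L = ρ d := by
  simp only [coverOk, Bool.and_eq_true] at hcov
  obtain ⟨hz, hg⟩ := hcov
  cases hcz : carry A L zc with
  | none => rw [hcz] at hz; simp at hz
  | some y =>
    rw [hcz] at hz
    have e := carry_sound F L _ _ hcz
    rw [Nat.eq_of_beq_eq_true hz, C.zc_eq] at e
    obtain ⟨d, hd, ed⟩ := C.surj _ (mul_inv_eq_iff_eq_mul.1 e)
    cases hcg : carry A L g with
    | none => rw [hcg] at hg; simp at hg
    | some y' =>
      rw [hcg] at hg
      have e' := carry_sound F L _ _ hcg
      rw [← ed, ← C.cj_eq, ← C.mod_eq y'] at e'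
      have h := all_range hg hd
      have hb : Nat.beq (cj d g) (y' % 7680) = true := by
        rw [Nat.beq_eq]
        exact C.inj' (mul_lt _ _) (Nat.mod_lt y' (by norm_num)) e'
      simp only [hb, Bool.not_true, Bool.false_or, Bool.or_eq_true, List.contains_iff_mem, List.any_eq_true] at h
      rcases h with h | ⟨c, hc, hdc⟩
      · exact ⟨d, h, ed.symm⟩
      · exfalso
        have ok := List.all_eq_true.1 (show c.2.2.all (fun d => c.1.collapse A (relsOf cc L d) c.2.1) = true from
          List.all_eq_true.1 hcs c hc) d hdc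
        let X := G ⧸ Subgroup.centralizer ({t} : Set G)
        have ho : ∀ a, ρ a • (QuotientGroup.mk (1 : G) : X) = QuotientGroup.mk 1 := fun a => by
          show (QuotientGroup.mk (ρ a * 1) : X) = _
          rw [mul_one, QuotientGroup.eq, mul_one, Subgroup.inv_mem_iff]
          exact Subgroup.mem_centralizer_singleton_iff.2 (C.mem a)
        have hs := (F.acts hback ho).collapse_sound (F.rels_true ed.symm) ok
        change (QuotientGroup.mk (s * 1) : X) = _ at hs
        rw [mul_one, QuotientGroup.eq, mul_one, Subgroup.inv_mem_iff, Subgroup.mem_centralizer_singleton_iff] at hs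
        have e1 := F.sconj zc phi_zc.2.2
        rw [hphi, C.zc_eq, hs] at e1
        have e2 : t = ρ x0 := mul_right_cancel e1
        rw [← C.zc_eq] at e2
        exact absurd (C.inj' (by decide +kernel) (by decide +kernel) e2) (by decide +kernel)

end Cfsg.Agent.HSLocal
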