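import Cfsg.Agent.Lib.HSLocal.Close.WordDefs

/-!
The collapse certificates, evaluated.
-/

set_option autoImplicit false
set_option maxRecDepth 100000

namespace Cfsg.Agent.HSLocal

theorem coverZero : coverOk autZero wordZero 2 [] certsZero = true := by decide +kernel

theorem coverOne : coverOk autOne wordOne 3 [dOne] certsOne = true := by decide +kernel

theorem collapseZero : CollapseZero0.certs.all (certOk autZero ccZero wordZero) = true := by decide +kernel

end Cfsg.Agent.HSLocal
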