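import Cfsg.Agent.Lib.HSLocal.Cert

/-!
Certificates that `s` fixes the base point, with the values of the word for which they work.
-/

set_option autoImplicit false
set_option maxRecDepth 100000

namespace Cfsg.Agent.HSLocal.CollapseOne2

/-- The certificates. -/
def certs : List (Cert × List Move × List Nat) :=
  [(⟨[⟨false,0,0⟩,⟨false,64,1⟩,⟨false,384,1⟩,⟨false,448,1⟩],
   [⟨0,1,3,0,false,[],[.edge 2,.eqn 0 false,.eqn 1 false,.eqn 0 false,.eqn 1 false,.eqn 1 false,.eqn 0 true,.eqn 0 true,.eqn 1 true,.eqn 0 false,.eqn 1 true,.edge 2]⟩,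
    ⟨0,1,3,0,false,[],[.edge 2,.eqn 0 false,.eqn 1 false,.eqn 1 false,.eqn 0 false,.eqn 1 false,.eqn 1 false,.edge 2]⟩,
    ⟨0,1,3,0,false,[],[.edge 2,.eqn 0 false,.eqn 1 true,.eqn 0 true,.eqn 1 false,.eqn 0 false,.eqn 1 true,.eqn 0 true,.eqn 1 false,.edge 2]⟩,
    ⟨0,1,3,0,false,[],[.edge 2,.eqn 0 false,.eqn 1 true,.eqn 0 false,.eqn 1 true,.eqn 0 false,.eqn 1 true,.edge 2]⟩,
    ⟨0,1,3,0,false,[],[.edge 2,.eqn 0 false,.eqn 1 false,.eqn 0 false,.eqn 1 true,.eqn 0 false,.eqn 1 false,.eqn 0 false,.edge 2]⟩,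
    ⟨0,1,3,0,false,[],[.edge 2,.eqn 0 false,.eqn 1 false,.eqn 1 false,.eqn 1 false,.eqn 0 true,.edge 2]⟩,
    ⟨0,1,3,0,false,[],[.edge 2,.eqn 0 false,.eqn 1 false,.eqn 0 true,.eqn 1 true,.edge 2]⟩,
    ⟨0,0,1,3,true,[.code,.edge 2,.code],[.code]⟩,
    ⟨0,0,0,1,true,[.edge 2],[.eqn 0 false,.eqn 0 false,.eqn 1 false,.edge 13]⟩,
    ⟨0,2,3,0,false,[],[.edge 3,.eqn 9 false,.eqn 11 false,.edge 3]⟩,
    ⟨3,2,3,0,false,[],[.edge 3,.eqn 9 true,.eqn 10 true,.edge 3]⟩,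
    ⟨0,2,3,0,false,[],[.edge 3,.eqn 6 false,.edge 3]⟩,
    ⟨0,2,3,0,false,[],[.edge 3,.eqn 8 false,.eqn 9 false,.edge 3]⟩,
    ⟨64,1,1,3,true,[.code,.edge 3,.code],[.code]⟩,
    ⟨64,1,0,1,true,[.edge 3],[.eqn 7 false,.edge 19]⟩,
    ⟨0,3,3,0,false,[],[.edge 4,.eqn 10 false,.eqn 11 false,.edge 4]⟩,
    ⟨8,3,3,0,false,[],[.edge 4,.eqn 8 false,.eqn 12 false,.edge 4]⟩,
    ⟨128,3,3,0,false,[],[.edge 4,.eqn 9 false,.edge 4]⟩,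
    ⟨0,0,2,5,true,[.code,.eqn 0 false,.eqn 1 false,.eqn 0 false,.edge 2,.code,.eqn 8 false,.eqn 10 false,.edge 4,.code],[.code,.eqn 1 false,.eqn 0 false,.eqn 1 false,.edge 13,.code,.eqn 8 false,.edge 19,.code]⟩,
    ⟨76,2,3,0,false,[],[.eqn 16 false,.edge 24,.eqn 21 false,.eqn 22 false,.edge 24]⟩,
    ⟨64,1,4,0,false,[],[.edge 3,.eqn 18 false,.eqn 25 true,.edge 24]⟩,
    ⟨33,4,3,0,false,[],[.edge 5,.eqn 6 false,.eqn 9 true,.eqn 11 false,.edge 5]⟩,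
    ⟨0,4,3,0,false,[],[.edge 5,.eqn 7 false,.eqn 9 true,.eqn 10 false,.edge 5]⟩,
    ⟨448,1,1,3,true,[.code,.edge 5,.code],[.code]⟩,
    ⟨768,1,2,3,true,[.code,.eqn 12 true,.edge 5,.code],[.code,.edge 14,.code,.eqn 7 false,.eqn 8 false,.edge 19,.code,.eqn 25 true,.edge 20,.code]⟩,
    ⟨2496,1,2,7,true,[.code,.edge 14,.code,.eqn 8 false,.eqn 10 false,.edge 4,.code,.eqn 26 true,.eqn 8 false,.edge 5,.code],[.code,.eqn 6 false,.edge 29,.code]⟩,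
    ⟨1920,2,2,1,true,[.code],[.code,.edge 3,.code,.eqn 8 false,.edge 19,.code,.edge 24,.code,.eqn 23 true,.eqn 26 true,.edge 29,.code]⟩,
    ⟨2112,4,2,1,false,[.code],[.code,.eqn 27 false,.eqn 28 false,.edge 31,.code,.eqn 27 false,.edge 31,.code,.eqn 27 false,.edge 31,.code,.edge 32,.code,.eqn 15 false,.eqn 17 false,.edge 30]⟩,
    ⟨448,1,4,0,false,[],[.edge 5,.eqn 33 false,.eqn 27 false,.eqn 33 true,.edge 5]⟩,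
    ⟨0,0,3,0,false,[],[.eqn 0 false,.eqn 0 false,.eqn 1 false,.edge 13,.eqn 34 false,.edge 14]⟩]⟩,
   [.edge 2,.eqn 35 true],
   [2515,2527,2551,2555,4433,4441,4469,4477]),
  (⟨[⟨false,0,0⟩,⟨false,64,1⟩,⟨false,384,1⟩,⟨false,448,1⟩],
   [⟨0,1,3,0,false,[],[.edge 2,.eqn 0 false,.eqn 1 false,.eqn 1 false,.eqn 0 false,.eqn 1 false,.eqn 1 false,.edge 2]⟩,
    ⟨0,1,3,0,false,[],[.edge 2,.eqn 0 false,.eqn 1 true,.eqn 0 true,.eqn 1 false,.eqn 0 false,.eqn 1 true,.eqn 0 true,.eqn 1 false,.edge 2]⟩,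
    ⟨0,1,3,0,false,[],[.edge 2,.eqn 0 false,.eqn 1 true,.eqn 0 false,.eqn 1 true,.eqn 0 false,.eqn 1 true,.edge 2]⟩,
    ⟨0,1,3,0,false,[],[.edge 2,.eqn 0 false,.eqn 1 false,.eqn 0 false,.eqn 1 true,.eqn 0 false,.eqn 1 false,.eqn 0 false,.edge 2]⟩,
    ⟨0,1,3,0,false,[],[.edge 2,.eqn 0 false,.eqn 1 false,.eqn 1 false,.eqn 1 false,.eqn 0 true,.edge 2]⟩,
    ⟨0,1,3,0,false,[],[.edge 2,.eqn 0 false,.eqn 1 false,.eqn 0 true,.eqn 1 true,.edge 2]⟩,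
    ⟨0,0,1,3,true,[.code,.edge 2,.code],[.code]⟩,
    ⟨0,0,0,1,true,[.edge 2],[.eqn 0 false,.eqn 0 false,.eqn 1 false,.edge 12]⟩,
    ⟨3,2,3,0,false,[],[.edge 3,.eqn 8 true,.eqn 9 true,.edge 3]⟩,
    ⟨0,2,3,0,false,[],[.edge 3,.eqn 7 false,.eqn 8 false,.edge 3]⟩,
    ⟨64,1,1,3,true,[.code,.edge 3,.code],[.code]⟩,
    ⟨64,1,0,1,true,[.edge 3],[.eqn 6 false,.edge 16]⟩,
    ⟨0,3,3,0,false,[],[.edge 4,.eqn 9 false,.eqn 10 false,.edge 4]⟩,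
    ⟨8,3,3,0,false,[],[.edge 4,.eqn 7 false,.eqn 11 false,.edge 4]⟩,
    ⟨128,3,3,0,false,[],[.edge 4,.eqn 8 false,.edge 4]⟩,
    ⟨0,0,2,5,true,[.code,.eqn 1 false,.eqn 0 false,.eqn 1 false,.eqn 0 true,.edge 2,.code,.eqn 9 false,.edge 4,.code],[.code,.eqn 1 false,.eqn 0 false,.eqn 1 false,.edge 12,.code,.eqn 7 false,.edge 16,.code]⟩,
    ⟨76,2,3,0,false,[],[.eqn 14 false,.edge 21,.eqn 18 false,.eqn 19 false,.edge 21]⟩,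
    ⟨64,1,4,0,false,[],[.edge 3,.eqn 15 false,.eqn 22 true,.edge 21]⟩,
    ⟨0,4,3,0,false,[],[.edge 5,.eqn 6 false,.eqn 8 true,.eqn 9 false,.edge 5]⟩,
    ⟨448,1,1,3,true,[.code,.edge 5,.code],[.code]⟩,
    ⟨768,1,2,3,true,[.code,.eqn 7 true,.eqn 11 true,.edge 5,.code],[.code,.edge 13,.code,.eqn 6 false,.eqn 7 false,.edge 16,.code,.eqn 22 true,.edge 17,.code]⟩,
    ⟨1920,2,2,1,true,[.code],[.code,.edge 3,.code,.eqn 7 false,.edge 16,.code,.edge 21,.code,.eqn 20 true,.eqn 23 true,.edge 25,.code]⟩,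
    ⟨1921,2,2,11,false,[.code,.edge 27,.code,.eqn 24 false,.edge 26,.code,.edge 16,.code,.eqn 6 false,.eqn 7 false,.edge 3,.code,.eqn 22 true,.edge 17,.code],[]⟩,
    ⟨64,1,4,0,false,[],[.edge 3,.eqn 22 false,.eqn 28 false,.edge 21]⟩,
    ⟨0,0,3,0,false,[],[.eqn 0 false,.eqn 0 false,.eqn 1 false,.edge 12,.eqn 23 false,.eqn 29 true,.edge 13]⟩]⟩,
   [.edge 2,.eqn 30 true],
   [2899,2903,2931,2935,4033,4037,4065,4069]),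
  (⟨[⟨false,0,0⟩,⟨false,64,1⟩,⟨false,384,1⟩,⟨false,448,1⟩],
   [⟨0,1,3,0,false,[],[.edge 2,.eqn 0 false,.eqn 1 false,.eqn 0 false,.eqn 1 false,.eqn 1 false,.eqn 0 true,.eqn 0 true,.eqn 1 true,.eqn 0 false,.eqn 1 true,.edge 2]⟩,
    ⟨0,1,3,0,false,[],[.edge 2,.eqn 0 false,.eqn 1 false,.eqn 1 false,.eqn 0 false,.eqn 1 false,.eqn 1 false,.edge 2]⟩,
    ⟨0,1,3,0,false,[],[.edge 2,.eqn 0 false,.eqn 1 true,.eqn 0 true,.eqn 1 false,.eqn 0 false,.eqn 1 true,.eqn 0 true,.eqn 1 false,.edge 2]⟩,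
    ⟨0,1,3,0,false,[],[.edge 2,.eqn 0 false,.eqn 1 true,.eqn 0 false,.eqn 1 true,.eqn 0 false,.eqn 1 true,.edge 2]⟩,
    ⟨0,1,3,0,false,[],[.edge 2,.eqn 0 false,.eqn 1 false,.eqn 0 false,.eqn 1 true,.eqn 0 false,.eqn 1 false,.eqn 0 false,.edge 2]⟩,
    ⟨0,1,3,0,false,[],[.edge 2,.eqn 0 false,.eqn 1 false,.eqn 1 false,.eqn 1 false,.eqn 0 true,.edge 2]⟩,
    ⟨0,1,3,0,false,[],[.edge 2,.eqn 0 false,.eqn 1 false,.eqn 0 true,.eqn 1 true,.edge 2]⟩,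
    ⟨0,0,1,3,true,[.code,.edge 2,.code],[.code]⟩,
    ⟨0,0,0,1,true,[.edge 2],[.eqn 0 false,.eqn 0 false,.eqn 1 false,.edge 13]⟩,
    ⟨0,2,3,0,false,[],[.edge 3,.eqn 9 false,.eqn 11 false,.edge 3]⟩,
    ⟨3,2,3,0,false,[],[.edge 3,.eqn 9 true,.eqn 10 true,.edge 3]⟩,
    ⟨0,2,3,0,false,[],[.edge 3,.eqn 8 false,.eqn 9 false,.edge 3]⟩,
    ⟨64,1,1,3,true,[.code,.edge 3,.code],[.code]⟩,
    ⟨64,1,0,1,true,[.edge 3],[.eqn 7 false,.edge 18]⟩,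
    ⟨0,3,3,0,false,[],[.edge 4,.eqn 10 false,.eqn 11 false,.edge 4]⟩,
    ⟨8,3,3,0,false,[],[.edge 4,.eqn 8 false,.eqn 12 false,.edge 4]⟩,
    ⟨128,3,3,0,false,[],[.edge 4,.eqn 9 false,.edge 4]⟩,
    ⟨0,0,2,5,true,[.code,.eqn 1 true,.eqn 0 true,.eqn 0 true,.eqn 1 true,.edge 2,.code,.eqn 8 false,.eqn 10 false,.edge 4,.code],[.code,.eqn 1 false,.eqn 0 false,.eqn 1 false,.edge 13,.code,.eqn 8 false,.edge 18,.code]⟩,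
    ⟨76,2,3,0,false,[],[.eqn 16 false,.edge 23,.eqn 20 false,.eqn 21 false,.edge 23]⟩,
    ⟨64,1,4,0,false,[],[.edge 3,.eqn 17 false,.eqn 24 true,.edge 23]⟩,
    ⟨33,4,3,0,false,[],[.edge 5,.eqn 6 false,.eqn 9 true,.eqn 11 false,.edge 5]⟩,
    ⟨0,4,3,0,false,[],[.edge 5,.eqn 7 false,.eqn 9 true,.eqn 10 false,.edge 5]⟩,
    ⟨448,1,1,3,true,[.code,.edge 5,.code],[.code]⟩,
    ⟨768,1,2,3,true,[.code,.eqn 8 false,.eqn 12 true,.edge 5,.code],[.code,.edge 14,.code,.eqn 7 false,.eqn 8 false,.edge 18,.code,.eqn 24 true,.edge 19,.code]⟩,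
    ⟨2496,1,2,7,true,[.code,.eqn 8 false,.edge 4,.code,.eqn 25 true,.edge 14,.code,.eqn 8 false,.eqn 9 false,.edge 5,.code],[.code,.eqn 6 false,.edge 28,.code]⟩,
    ⟨1920,2,2,1,true,[.code],[.code,.edge 3,.code,.eqn 8 false,.edge 18,.code,.edge 23,.code,.eqn 22 true,.eqn 25 true,.edge 28,.code]⟩,
    ⟨2112,4,2,1,false,[.code],[.code,.eqn 26 false,.eqn 27 false,.edge 30,.code,.edge 30,.code,.edge 30,.code,.edge 31,.code,.eqn 15 false,.edge 29]⟩,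
    ⟨448,1,4,0,false,[],[.edge 5,.eqn 32 false,.eqn 26 false,.eqn 32 true,.edge 5]⟩,
    ⟨0,0,3,0,false,[],[.eqn 0 false,.eqn 0 false,.eqn 1 false,.edge 13,.eqn 33 false,.edge 14]⟩]⟩,
   [.edge 2,.eqn 34 true],
   [2921,2925]),
  (⟨[⟨false,0,0⟩,⟨false,64,1⟩,⟨false,384,1⟩,⟨false,448,1⟩],
   [⟨0,1,3,0,false,[],[.edge 2,.eqn 0 false,.eqn 1 false,.eqn 0 false,.eqn 1 false,.eqn 1 false,.eqn 0 true,.eqn 0 true,.eqn 1 true,.eqn 0 false,.eqn 1 true,.edge 2]⟩,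
    ⟨0,1,3,0,false,[],[.edge 2,.eqn 0 false,.eqn 1 false,.eqn 1 false,.eqn 0 false,.eqn 1 false,.eqn 1 false,.edge 2]⟩,
    ⟨0,1,3,0,false,[],[.edge 2,.eqn 0 false,.eqn 1 true,.eqn 0 true,.eqn 1 false,.eqn 0 false,.eqn 1 true,.eqn 0 true,.eqn 1 false,.edge 2]⟩,
    ⟨0,1,3,0,false,[],[.edge 2,.eqn 0 false,.eqn 1 true,.eqn 0 false,.eqn 1 true,.eqn 0 false,.eqn 1 true,.edge 2]⟩,
    ⟨0,1,3,0,false,[],[.edge 2,.eqn 0 false,.eqn 1 false,.eqn 0 false,.eqn 1 true,.eqn 0 false,.eqn 1 false,.eqn 0 false,.edge 2]⟩,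
    ⟨0,1,3,0,false,[],[.edge 2,.eqn 0 false,.eqn 1 false,.eqn 1 false,.eqn 1 false,.eqn 0 true,.edge 2]⟩,
    ⟨0,1,3,0,false,[],[.edge 2,.eqn 0 false,.eqn 1 false,.eqn 0 true,.eqn 1 true,.edge 2]⟩,
    ⟨0,0,1,3,true,[.code,.edge 2,.code],[.code]⟩,
    ⟨0,0,0,1,true,[.edge 2],[.eqn 0 false,.eqn 0 false,.eqn 1 false,.edge 13]⟩,
    ⟨0,2,3,0,false,[],[.edge 3,.eqn 9 false,.eqn 11 false,.edge 3]⟩,
    ⟨3,2,3,0,false,[],[.edge 3,.eqn 9 true,.eqn 10 true,.edge 3]⟩,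
    ⟨0,2,3,0,false,[],[.edge 3,.eqn 6 false,.edge 3]⟩,
    ⟨0,2,3,0,false,[],[.edge 3,.eqn 8 false,.eqn 9 false,.edge 3]⟩,
    ⟨64,1,1,3,true,[.code,.edge 3,.code],[.code]⟩,
    ⟨64,1,0,1,true,[.edge 3],[.eqn 7 false,.edge 19]⟩,
    ⟨0,3,3,0,false,[],[.edge 4,.eqn 10 false,.eqn 11 false,.edge 4]⟩,
    ⟨8,3,3,0,false,[],[.edge 4,.eqn 8 false,.eqn 12 false,.edge 4]⟩,
    ⟨128,3,3,0,false,[],[.edge 4,.eqn 9 false,.edge 4]⟩,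
    ⟨0,0,2,5,true,[.code,.eqn 1 false,.eqn 0 false,.eqn 1 false,.eqn 0 true,.edge 2,.code,.eqn 10 false,.edge 4,.code],[.code,.eqn 1 false,.eqn 0 false,.eqn 1 false,.edge 13,.code,.eqn 8 false,.edge 19,.code]⟩,
    ⟨449,3,4,0,false,[],[.eqn 21 true,.eqn 23 false,.edge 24,.eqn 15 false,.eqn 17 false,.edge 24]⟩,
    ⟨76,2,3,0,false,[],[.eqn 16 false,.edge 24,.eqn 21 false,.eqn 22 false,.edge 24]⟩,
    ⟨64,1,4,0,false,[],[.edge 3,.eqn 18 false,.eqn 26 true,.edge 24]⟩,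
    ⟨33,4,3,0,false,[],[.edge 5,.eqn 6 false,.eqn 9 true,.eqn 11 false,.edge 5]⟩,
    ⟨0,4,3,0,false,[],[.edge 5,.eqn 7 false,.eqn 9 true,.eqn 10 false,.edge 5]⟩,
    ⟨448,1,1,3,true,[.code,.edge 5,.code],[.code]⟩,
    ⟨768,1,2,3,true,[.code,.eqn 8 true,.eqn 12 true,.edge 5,.code],[.code,.edge 14,.code,.eqn 7 false,.eqn 8 false,.edge 19,.code,.eqn 26 true,.edge 20,.code]⟩,
    ⟨2496,1,2,7,true,[.code,.eqn 8 false,.eqn 10 false,.edge 4,.code,.eqn 25 false,.eqn 27 true,.eqn 8 false,.edge 4,.code,.eqn 21 false,.eqn 27 true,.eqn 12 false,.edge 5,.code],[.code,.eqn 6 false,.edge 30,.code]⟩,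
    ⟨2113,4,2,7,false,[.code,.edge 31,.code,.eqn 26 false,.edge 19,.code,.eqn 9 false,.edge 5,.code],[.code,.eqn 28 false,.eqn 29 false,.edge 32,.code,.eqn 28 false,.edge 32]⟩,
    ⟨448,1,4,0,false,[],[.edge 5,.eqn 33 false,.eqn 28 false,.eqn 33 true,.edge 5]⟩,
    ⟨0,0,3,0,false,[],[.eqn 0 false,.eqn 0 false,.eqn 1 false,.edge 13,.eqn 34 false,.edge 14]⟩]⟩,
   [.edge 2,.eqn 35 true],
   [2907,2939]),
  (⟨[⟨false,0,0⟩,⟨false,64,1⟩,⟨false,384,1⟩,⟨false,448,1⟩],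
   [⟨0,1,3,0,false,[],[.edge 2,.eqn 0 false,.eqn 1 false,.eqn 0 false,.eqn 1 false,.eqn 1 false,.eqn 0 true,.eqn 0 true,.eqn 1 true,.eqn 0 false,.eqn 1 true,.edge 2]⟩,
    ⟨0,1,3,0,false,[],[.edge 2,.eqn 0 false,.eqn 1 false,.eqn 1 false,.eqn 0 false,.eqn 1 false,.eqn 1 false,.edge 2]⟩,
    ⟨0,1,3,0,false,[],[.edge 2,.eqn 0 false,.eqn 1 true,.eqn 0 true,.eqn 1 false,.eqn 0 false,.eqn 1 true,.eqn 0 true,.eqn 1 false,.edge 2]⟩,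
    ⟨0,1,3,0,false,[],[.edge 2,.eqn 0 false,.eqn 1 true,.eqn 0 false,.eqn 1 true,.eqn 0 false,.eqn 1 true,.edge 2]⟩,
    ⟨0,1,3,0,false,[],[.edge 2,.eqn 0 false,.eqn 1 false,.eqn 0 false,.eqn 1 true,.eqn 0 false,.eqn 1 false,.eqn 0 false,.edge 2]⟩,
    ⟨0,1,3,0,false,[],[.edge 2,.eqn 0 false,.eqn 1 false,.eqn 1 false,.eqn 1 false,.eqn 0 true,.edge 2]⟩,
    ⟨0,1,3,0,false,[],[.edge 2,.eqn 0 false,.eqn 1 false,.eqn 0 true,.eqn 1 true,.edge 2]⟩,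
    ⟨0,0,1,3,true,[.code,.edge 2,.code],[.code]⟩,
    ⟨0,0,0,1,true,[.edge 2],[.eqn 0 false,.eqn 0 false,.eqn 1 false,.edge 13]⟩,
    ⟨0,2,3,0,false,[],[.edge 3,.eqn 9 false,.eqn 11 false,.edge 3]⟩,
    ⟨3,2,3,0,false,[],[.edge 3,.eqn 9 true,.eqn 10 true,.edge 3]⟩,
    ⟨0,2,3,0,false,[],[.edge 3,.eqn 6 false,.edge 3]⟩,
    ⟨0,2,3,0,false,[],[.edge 3,.eqn 8 false,.eqn 9 false,.edge 3]⟩,
    ⟨64,1,1,3,true,[.code,.edge 3,.code],[.code]⟩,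
    ⟨64,1,0,1,true,[.edge 3],[.eqn 7 false,.edge 19]⟩,
    ⟨0,3,3,0,false,[],[.edge 4,.eqn 10 false,.eqn 11 false,.edge 4]⟩,
    ⟨8,3,3,0,false,[],[.edge 4,.eqn 8 false,.eqn 12 false,.edge 4]⟩,
    ⟨128,3,3,0,false,[],[.edge 4,.eqn 9 false,.edge 4]⟩,
    ⟨0,0,2,5,true,[.code,.eqn 1 false,.eqn 0 false,.eqn 1 false,.eqn 0 true,.edge 2,.code,.eqn 10 false,.edge 4,.code],[.code,.eqn 1 false,.eqn 0 false,.eqn 1 false,.edge 13,.code,.eqn 8 false,.edge 19,.code]⟩,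
    ⟨449,3,4,0,false,[],[.eqn 21 true,.eqn 23 false,.edge 24,.eqn 15 false,.eqn 17 false,.edge 24]⟩,
    ⟨76,2,3,0,false,[],[.eqn 16 false,.edge 24,.eqn 21 false,.eqn 22 false,.edge 24]⟩,
    ⟨64,1,4,0,false,[],[.edge 3,.eqn 18 false,.eqn 26 true,.edge 24]⟩,
    ⟨33,4,3,0,false,[],[.edge 5,.eqn 6 false,.eqn 9 true,.eqn 11 false,.edge 5]⟩,
    ⟨0,4,3,0,false,[],[.edge 5,.eqn 7 false,.eqn 9 true,.eqn 10 false,.edge 5]⟩,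
    ⟨448,1,1,3,true,[.code,.edge 5,.code],[.code]⟩,
    ⟨768,1,2,3,true,[.code,.eqn 8 true,.eqn 12 true,.edge 5,.code],[.code,.edge 14,.code,.eqn 7 false,.eqn 8 false,.edge 19,.code,.eqn 26 true,.edge 20,.code]⟩,
    ⟨2496,1,2,7,true,[.code,.eqn 8 false,.eqn 10 false,.edge 4,.code,.eqn 25 false,.eqn 27 true,.eqn 8 false,.edge 4,.code,.eqn 21 true,.eqn 27 true,.eqn 12 false,.edge 5,.code],[.code,.eqn 6 false,.edge 30,.code]⟩,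
    ⟨2113,4,2,7,false,[.code,.edge 31,.code,.eqn 26 false,.edge 19,.code,.eqn 9 true,.edge 5,.code],[.code,.eqn 28 false,.eqn 29 false,.edge 32,.code,.eqn 28 false,.edge 32]⟩,
    ⟨448,1,4,0,false,[],[.edge 5,.eqn 33 false,.eqn 28 false,.eqn 33 true,.edge 5]⟩,
    ⟨0,0,3,0,false,[],[.eqn 0 false,.eqn 0 false,.eqn 1 false,.edge 13,.eqn 34 false,.edge 14]⟩]⟩,
   [.edge 2,.eqn 35 true],
   [2911,2943]),
  (⟨[⟨false,0,0⟩,⟨false,64,1⟩,⟨false,384,1⟩,⟨false,448,1⟩],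
   [⟨0,1,3,0,false,[],[.edge 2,.eqn 0 false,.eqn 1 false,.eqn 0 false,.eqn 1 false,.eqn 1 false,.eqn 0 true,.eqn 0 true,.eqn 1 true,.eqn 0 false,.eqn 1 true,.edge 2]⟩,
    ⟨0,1,3,0,false,[],[.edge 2,.eqn 0 false,.eqn 1 false,.eqn 1 false,.eqn 0 false,.eqn 1 false,.eqn 1 false,.edge 2]⟩,
    ⟨0,1,3,0,false,[],[.edge 2,.eqn 0 false,.eqn 1 true,.eqn 0 true,.eqn 1 false,.eqn 0 false,.eqn 1 true,.eqn 0 true,.eqn 1 false,.edge 2]⟩,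
    ⟨0,1,3,0,false,[],[.edge 2,.eqn 0 false,.eqn 1 true,.eqn 0 false,.eqn 1 true,.eqn 0 false,.eqn 1 true,.edge 2]⟩,
    ⟨0,1,3,0,false,[],[.edge 2,.eqn 0 false,.eqn 1 false,.eqn 0 false,.eqn 1 true,.eqn 0 false,.eqn 1 false,.eqn 0 false,.edge 2]⟩,
    ⟨0,1,3,0,false,[],[.edge 2,.eqn 0 false,.eqn 1 false,.eqn 1 false,.eqn 1 false,.eqn 0 true,.edge 2]⟩,
    ⟨0,1,3,0,false,[],[.edge 2,.eqn 0 false,.eqn 1 false,.eqn 0 true,.eqn 1 true,.edge 2]⟩,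
    ⟨0,0,1,3,true,[.code,.edge 2,.code],[.code]⟩,
    ⟨0,0,0,1,true,[.edge 2],[.eqn 0 false,.eqn 0 false,.eqn 1 false,.edge 13]⟩,
    ⟨0,2,3,0,false,[],[.edge 3,.eqn 9 false,.eqn 11 false,.edge 3]⟩,
    ⟨3,2,3,0,false,[],[.edge 3,.eqn 9 true,.eqn 10 true,.edge 3]⟩,
    ⟨0,2,3,0,false,[],[.edge 3,.eqn 8 false,.eqn 9 false,.edge 3]⟩,
    ⟨64,1,1,3,true,[.code,.edge 3,.code],[.code]⟩,
    ⟨64,1,0,1,true,[.edge 3],[.eqn 7 false,.edge 18]⟩,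
    ⟨0,3,3,0,false,[],[.edge 4,.eqn 10 false,.eqn 11 false,.edge 4]⟩,
    ⟨8,3,3,0,false,[],[.edge 4,.eqn 8 false,.eqn 12 false,.edge 4]⟩,
    ⟨128,3,3,0,false,[],[.edge 4,.eqn 9 false,.edge 4]⟩,
    ⟨0,0,2,5,true,[.code,.eqn 1 true,.eqn 0 true,.eqn 0 true,.eqn 1 true,.edge 2,.code,.eqn 8 false,.eqn 10 false,.edge 4,.code],[.code,.eqn 1 false,.eqn 0 false,.eqn 1 false,.edge 13,.code,.eqn 8 false,.edge 18,.code]⟩,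
    ⟨76,2,3,0,false,[],[.eqn 16 false,.edge 23,.eqn 20 false,.eqn 21 false,.edge 23]⟩,
    ⟨64,1,4,0,false,[],[.edge 3,.eqn 17 false,.eqn 24 true,.edge 23]⟩,
    ⟨33,4,3,0,false,[],[.edge 5,.eqn 6 false,.eqn 9 true,.eqn 11 false,.edge 5]⟩,
    ⟨0,4,3,0,false,[],[.edge 5,.eqn 7 false,.eqn 9 true,.eqn 10 false,.edge 5]⟩,
    ⟨448,1,1,3,true,[.code,.edge 5,.code],[.code]⟩,
    ⟨768,1,2,3,true,[.code,.eqn 8 false,.eqn 12 true,.edge 5,.code],[.code,.edge 14,.code,.eqn 7 false,.eqn 8 false,.edge 18,.code,.eqn 24 true,.edge 19,.code]⟩,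
    ⟨2496,1,2,7,true,[.code,.eqn 8 false,.edge 4,.code,.eqn 25 true,.edge 14,.code,.eqn 8 false,.edge 5,.code],[.code,.eqn 6 false,.edge 28,.code]⟩,
    ⟨1920,2,2,1,true,[.code],[.code,.edge 3,.code,.eqn 8 false,.edge 18,.code,.edge 23,.code,.eqn 22 true,.eqn 25 true,.edge 28,.code]⟩,
    ⟨2112,4,2,1,false,[.code],[.code,.eqn 26 false,.eqn 27 false,.edge 30,.code,.edge 30,.code,.edge 30,.code,.edge 31,.code,.eqn 15 false,.edge 29]⟩,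
    ⟨448,1,4,0,false,[],[.edge 5,.eqn 32 false,.eqn 26 false,.eqn 32 false,.edge 5]⟩,
    ⟨0,0,3,0,false,[],[.eqn 0 false,.eqn 0 false,.eqn 1 false,.edge 13,.eqn 33 false,.edge 14]⟩]⟩,
   [.edge 2,.eqn 34 true],
   [4075,4079]),
  (⟨[⟨false,0,0⟩,⟨false,64,1⟩,⟨false,384,1⟩,⟨false,448,1⟩],
   [⟨0,1,3,0,false,[],[.edge 2,.eqn 0 false,.eqn 1 false,.eqn 0 false,.eqn 1 false,.eqn 1 false,.eqn 0 true,.eqn 0 true,.eqn 1 true,.eqn 0 false,.eqn 1 true,.edge 2]⟩,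
    ⟨0,1,3,0,false,[],[.edge 2,.eqn 0 false,.eqn 1 false,.eqn 1 false,.eqn 0 false,.eqn 1 false,.eqn 1 false,.edge 2]⟩,
    ⟨0,1,3,0,false,[],[.edge 2,.eqn 0 false,.eqn 1 true,.eqn 0 true,.eqn 1 false,.eqn 0 false,.eqn 1 true,.eqn 0 true,.eqn 1 false,.edge 2]⟩,
    ⟨0,1,3,0,false,[],[.edge 2,.eqn 0 false,.eqn 1 true,.eqn 0 false,.eqn 1 true,.eqn 0 false,.eqn 1 true,.edge 2]⟩,
    ⟨0,1,3,0,false,[],[.edge 2,.eqn 0 false,.eqn 1 false,.eqn 0 false,.eqn 1 true,.eqn 0 false,.eqn 1 false,.eqn 0 false,.edge 2]⟩,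
    ⟨0,1,3,0,false,[],[.edge 2,.eqn 0 false,.eqn 1 false,.eqn 1 false,.eqn 1 false,.eqn 0 true,.edge 2]⟩,
    ⟨0,1,3,0,false,[],[.edge 2,.eqn 0 false,.eqn 1 false,.eqn 0 true,.eqn 1 true,.edge 2]⟩,
    ⟨0,0,1,3,true,[.code,.edge 2,.code],[.code]⟩,
    ⟨0,0,0,1,true,[.edge 2],[.eqn 0 false,.eqn 0 false,.eqn 1 false,.edge 13]⟩,
    ⟨3,2,3,0,false,[],[.edge 3,.eqn 9 true,.eqn 10 true,.edge 3]⟩,
    ⟨64,1,1,3,true,[.code,.edge 3,.code],[.code]⟩,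
    ⟨64,1,0,1,true,[.edge 3],[.eqn 7 false,.edge 16]⟩,
    ⟨0,3,3,0,false,[],[.edge 4,.eqn 10 false,.eqn 11 false,.edge 4]⟩,
    ⟨8,3,3,0,false,[],[.edge 4,.eqn 8 false,.eqn 12 false,.edge 4]⟩,
    ⟨0,0,2,5,true,[.code,.eqn 1 true,.eqn 0 false,.edge 2,.code,.edge 4,.code],[.code,.eqn 1 false,.eqn 0 false,.eqn 1 false,.edge 13,.code,.eqn 8 false,.edge 16,.code]⟩,
    ⟨76,2,3,0,false,[],[.eqn 15 false,.edge 20,.eqn 18 false,.eqn 19 false,.edge 20]⟩,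
    ⟨33,4,3,0,false,[],[.edge 5,.eqn 6 false,.eqn 9 true,.eqn 11 false,.edge 5]⟩,
    ⟨0,4,3,0,false,[],[.edge 5,.eqn 7 false,.eqn 9 true,.eqn 10 false,.edge 5]⟩,
    ⟨448,1,1,3,true,[.code,.edge 5,.code],[.code]⟩,
    ⟨768,1,2,3,true,[.code,.eqn 6 false,.eqn 12 true,.edge 5,.code],[.code,.edge 14,.code,.eqn 7 false,.eqn 8 false,.edge 16,.code,.eqn 21 true,.edge 17,.code]⟩,
    ⟨2496,1,2,7,true,[.code,.edge 13,.code,.eqn 1 false,.eqn 0 false,.eqn 1 false,.edge 2,.code,.eqn 12 false,.edge 5,.code],[.code,.eqn 6 false,.edge 24,.code]⟩,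
    ⟨2113,4,2,1,false,[.code],[.code,.eqn 22 false,.eqn 23 false,.edge 26,.code,.eqn 22 false,.eqn 23 false,.edge 26,.code,.edge 5,.code,.eqn 12 false,.edge 16,.code,.eqn 21 true,.edge 25]⟩,
    ⟨448,1,4,0,false,[],[.edge 5,.eqn 27 false,.eqn 22 false,.eqn 27 true,.edge 5]⟩,
    ⟨0,0,3,0,false,[],[.eqn 0 false,.eqn 0 false,.eqn 1 false,.edge 13,.eqn 28 false,.edge 14]⟩]⟩,
   [.edge 2,.eqn 29 true],
   [4459,4463]),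
  (⟨[⟨false,0,0⟩,⟨false,64,1⟩,⟨false,384,1⟩,⟨false,448,1⟩],
   [⟨0,1,3,0,false,[],[.edge 2,.eqn 0 false,.eqn 1 false,.eqn 0 false,.eqn 1 false,.eqn 1 false,.eqn 0 true,.eqn 0 true,.eqn 1 true,.eqn 0 false,.eqn 1 true,.edge 2]⟩,
    ⟨0,1,3,0,false,[],[.edge 2,.eqn 0 false,.eqn 1 false,.eqn 1 false,.eqn 0 false,.eqn 1 false,.eqn 1 false,.edge 2]⟩,
    ⟨0,1,3,0,false,[],[.edge 2,.eqn 0 false,.eqn 1 true,.eqn 0 true,.eqn 1 false,.eqn 0 false,.eqn 1 true,.eqn 0 true,.eqn 1 false,.edge 2]⟩,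
    ⟨0,1,3,0,false,[],[.edge 2,.eqn 0 false,.eqn 1 true,.eqn 0 false,.eqn 1 true,.eqn 0 false,.eqn 1 true,.edge 2]⟩,
    ⟨0,1,3,0,false,[],[.edge 2,.eqn 0 false,.eqn 1 false,.eqn 0 false,.eqn 1 true,.eqn 0 false,.eqn 1 false,.eqn 0 false,.edge 2]⟩,
    ⟨0,1,3,0,false,[],[.edge 2,.eqn 0 false,.eqn 1 false,.eqn 1 false,.eqn 1 false,.eqn 0 true,.edge 2]⟩,
    ⟨0,1,3,0,false,[],[.edge 2,.eqn 0 false,.eqn 1 false,.eqn 0 true,.eqn 1 true,.edge 2]⟩,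
    ⟨0,0,1,3,true,[.code,.edge 2,.code],[.code]⟩,
    ⟨0,0,0,1,true,[.edge 2],[.eqn 0 false,.eqn 0 false,.eqn 1 false,.edge 13]⟩,
    ⟨3,2,3,0,false,[],[.edge 3,.eqn 9 true,.eqn 10 true,.edge 3]⟩,
    ⟨0,2,3,0,false,[],[.edge 3,.eqn 6 false,.edge 3]⟩,
    ⟨0,2,3,0,false,[],[.edge 3,.eqn 8 false,.eqn 9 false,.edge 3]⟩,
    ⟨64,1,1,3,true,[.code,.edge 3,.code],[.code]⟩,
    ⟨64,1,0,1,true,[.edge 3],[.eqn 7 false,.edge 18]⟩,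
    ⟨0,3,3,0,false,[],[.edge 4,.eqn 10 false,.eqn 11 false,.edge 4]⟩,
    ⟨8,3,3,0,false,[],[.edge 4,.eqn 8 false,.eqn 12 false,.edge 4]⟩,
    ⟨128,3,3,0,false,[],[.edge 4,.eqn 9 false,.edge 4]⟩,
    ⟨0,0,2,5,true,[.code,.eqn 1 true,.eqn 0 false,.edge 2,.code,.edge 4,.code],[.code,.eqn 1 false,.eqn 0 false,.eqn 1 false,.edge 13,.code,.eqn 8 false,.edge 18,.code]⟩,
    ⟨76,2,3,0,false,[],[.eqn 15 false,.edge 23,.eqn 20 false,.eqn 21 false,.edge 23]⟩,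
    ⟨64,1,4,0,false,[],[.edge 3,.eqn 17 false,.eqn 24 true,.edge 23]⟩,
    ⟨33,4,3,0,false,[],[.edge 5,.eqn 6 false,.eqn 9 true,.eqn 11 false,.edge 5]⟩,
    ⟨0,4,3,0,false,[],[.edge 5,.eqn 7 false,.eqn 9 true,.eqn 10 false,.edge 5]⟩,
    ⟨448,1,1,3,true,[.code,.edge 5,.code],[.code]⟩,
    ⟨768,1,2,3,true,[.code,.eqn 6 false,.eqn 12 true,.edge 5,.code],[.code,.edge 14,.code,.eqn 7 false,.eqn 8 false,.edge 18,.code,.eqn 24 true,.edge 19,.code]⟩,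
    ⟨2496,1,2,7,true,[.code,.edge 13,.code,.eqn 1 false,.eqn 0 false,.eqn 1 false,.edge 2,.code,.eqn 8 true,.edge 5,.code],[.code,.eqn 6 false,.edge 28,.code]⟩,
    ⟨1920,2,2,1,true,[.code],[.code,.edge 3,.code,.eqn 8 false,.edge 18,.code,.edge 23,.code,.eqn 22 true,.eqn 25 true,.edge 28,.code]⟩,
    ⟨2112,4,2,5,false,[.code,.edge 29,.code,.eqn 16 false,.edge 31,.code],[.code,.eqn 26 false,.eqn 27 false,.edge 30,.code,.eqn 26 false,.edge 30,.code,.eqn 26 false,.edge 30]⟩,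
    ⟨448,1,4,0,false,[],[.edge 5,.eqn 32 false,.eqn 32 false,.edge 5]⟩,
    ⟨0,0,3,0,false,[],[.eqn 0 false,.eqn 0 false,.eqn 1 false,.edge 13,.eqn 33 false,.edge 14]⟩]⟩,
   [.edge 2,.eqn 34 true],
   [4443,4447,4475,4479]),
  (⟨[⟨false,0,0⟩,⟨false,64,1⟩,⟨false,384,1⟩,⟨false,448,1⟩],
   [⟨0,1,3,0,false,[],[.edge 2,.eqn 0 false,.eqn 1 false,.eqn 0 false,.eqn 1 false,.eqn 1 false,.eqn 0 true,.eqn 0 true,.eqn 1 true,.eqn 0 false,.eqn 1 true,.edge 2]⟩,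
    ⟨0,1,3,0,false,[],[.edge 2,.eqn 0 false,.eqn 1 false,.eqn 1 false,.eqn 0 false,.eqn 1 false,.eqn 1 false,.edge 2]⟩,
    ⟨0,1,3,0,false,[],[.edge 2,.eqn 0 false,.eqn 1 true,.eqn 0 true,.eqn 1 false,.eqn 0 false,.eqn 1 true,.eqn 0 true,.eqn 1 false,.edge 2]⟩,
    ⟨0,1,3,0,false,[],[.edge 2,.eqn 0 false,.eqn 1 true,.eqn 0 false,.eqn 1 true,.eqn 0 false,.eqn 1 true,.edge 2]⟩,
    ⟨0,1,3,0,false,[],[.edge 2,.eqn 0 false,.eqn 1 false,.eqn 0 false,.eqn 1 true,.eqn 0 false,.eqn 1 false,.eqn 0 false,.edge 2]⟩,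
    ⟨0,1,3,0,false,[],[.edge 2,.eqn 0 false,.eqn 1 false,.eqn 1 false,.eqn 1 false,.eqn 0 true,.edge 2]⟩,
    ⟨0,1,3,0,false,[],[.edge 2,.eqn 0 false,.eqn 1 false,.eqn 0 true,.eqn 1 true,.edge 2]⟩,
    ⟨0,0,1,3,true,[.code,.edge 2,.code],[.code]⟩,
    ⟨0,0,0,1,true,[.edge 2],[.eqn 0 false,.eqn 0 false,.eqn 1 false,.edge 13]⟩,
    ⟨0,2,3,0,false,[],[.edge 3,.eqn 9 false,.eqn 11 false,.edge 3]⟩,
    ⟨3,2,3,0,false,[],[.edge 3,.eqn 9 true,.eqn 10 true,.edge 3]⟩,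
    ⟨0,2,3,0,false,[],[.edge 3,.eqn 8 false,.eqn 9 false,.edge 3]⟩,
    ⟨64,1,1,3,true,[.code,.edge 3,.code],[.code]⟩,
    ⟨64,1,0,1,true,[.edge 3],[.eqn 7 false,.edge 18]⟩,
    ⟨0,3,3,0,false,[],[.edge 4,.eqn 10 false,.eqn 11 false,.edge 4]⟩,
    ⟨8,3,3,0,false,[],[.edge 4,.eqn 8 false,.eqn 12 false,.edge 4]⟩,
    ⟨128,3,3,0,false,[],[.edge 4,.eqn 9 false,.edge 4]⟩,
    ⟨0,0,2,5,true,[.code,.eqn 1 true,.eqn 0 true,.eqn 0 true,.eqn 1 true,.edge 2,.code,.eqn 8 false,.eqn 10 false,.edge 4,.code],[.code,.eqn 1 false,.eqn 0 false,.eqn 1 false,.edge 13,.code,.eqn 8 false,.edge 18,.code]⟩,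
    ⟨76,2,3,0,false,[],[.eqn 16 false,.edge 23,.eqn 20 false,.eqn 21 false,.edge 23]⟩,
    ⟨64,1,4,0,false,[],[.edge 3,.eqn 17 false,.eqn 24 true,.edge 23]⟩,
    ⟨33,4,3,0,false,[],[.edge 5,.eqn 6 false,.eqn 9 true,.eqn 11 false,.edge 5]⟩,
    ⟨0,4,3,0,false,[],[.edge 5,.eqn 7 false,.eqn 9 true,.eqn 10 false,.edge 5]⟩,
    ⟨448,1,1,3,true,[.code,.edge 5,.code],[.code]⟩,
    ⟨768,1,2,3,true,[.code,.eqn 8 false,.eqn 12 true,.edge 5,.code],[.code,.edge 14,.code,.eqn 7 false,.eqn 8 false,.edge 18,.code,.eqn 24 true,.edge 19,.code]⟩,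
    ⟨2496,1,2,7,true,[.code,.eqn 8 false,.edge 4,.code,.eqn 25 true,.edge 14,.code,.eqn 6 false,.eqn 12 true,.edge 5,.code],[.code,.eqn 6 false,.edge 28,.code]⟩,
    ⟨1920,2,2,1,true,[.code],[.code,.edge 3,.code,.eqn 8 false,.edge 18,.code,.edge 23,.code,.eqn 22 true,.eqn 25 true,.edge 28,.code]⟩,
    ⟨2112,4,2,1,false,[.code],[.code,.eqn 26 false,.eqn 27 false,.edge 30,.code,.edge 30,.code,.edge 30,.code,.edge 31,.code,.eqn 15 false,.edge 29]⟩,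
    ⟨448,1,4,0,false,[],[.edge 5,.eqn 32 false,.eqn 26 false,.eqn 32 true,.edge 5]⟩,
    ⟨0,0,3,0,false,[],[.eqn 0 false,.eqn 0 false,.eqn 1 false,.edge 13,.eqn 33 false,.edge 14]⟩]⟩,
   [.edge 2,.eqn 34 true],
   [4059,4063]),
  (⟨[⟨false,0,0⟩,⟨false,64,1⟩,⟨false,384,1⟩,⟨false,448,1⟩],
   [⟨0,1,3,0,false,[],[.edge 2,.eqn 0 false,.eqn 1 false,.eqn 1 false,.eqn 0 false,.eqn 1 false,.eqn 1 false,.edge 2]⟩,
    ⟨0,1,3,0,false,[],[.edge 2,.eqn 0 false,.eqn 1 true,.eqn 0 true,.eqn 1 false,.eqn 0 false,.eqn 1 true,.eqn 0 true,.eqn 1 false,.edge 2]⟩,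
    ⟨0,1,3,0,false,[],[.edge 2,.eqn 0 false,.eqn 1 true,.eqn 0 false,.eqn 1 true,.eqn 0 false,.eqn 1 true,.edge 2]⟩,
    ⟨0,1,3,0,false,[],[.edge 2,.eqn 0 false,.eqn 1 false,.eqn 0 false,.eqn 1 true,.eqn 0 false,.eqn 1 false,.eqn 0 false,.edge 2]⟩,
    ⟨0,1,3,0,false,[],[.edge 2,.eqn 0 false,.eqn 1 false,.eqn 1 false,.eqn 1 false,.eqn 0 true,.edge 2]⟩,
    ⟨0,1,3,0,false,[],[.edge 2,.eqn 0 false,.eqn 1 false,.eqn 0 true,.eqn 1 true,.edge 2]⟩,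
    ⟨0,0,1,3,true,[.code,.edge 2,.code],[.code]⟩,
    ⟨0,0,0,1,true,[.edge 2],[.eqn 0 false,.eqn 0 false,.eqn 1 false,.edge 12]⟩,
    ⟨0,2,3,0,false,[],[.edge 3,.eqn 8 false,.eqn 10 false,.edge 3]⟩,
    ⟨3,2,3,0,false,[],[.edge 3,.eqn 8 true,.eqn 9 true,.edge 3]⟩,
    ⟨0,2,3,0,false,[],[.edge 3,.eqn 7 false,.eqn 8 false,.edge 3]⟩,
    ⟨64,1,1,3,true,[.code,.edge 3,.code],[.code]⟩,
    ⟨64,1,0,1,true,[.edge 3],[.eqn 6 false,.edge 17]⟩,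
    ⟨0,3,3,0,false,[],[.edge 4,.eqn 9 false,.eqn 10 false,.edge 4]⟩,
    ⟨8,3,3,0,false,[],[.edge 4,.eqn 7 false,.eqn 11 false,.edge 4]⟩,
    ⟨128,3,3,0,false,[],[.edge 4,.eqn 8 false,.edge 4]⟩,
    ⟨0,0,2,5,true,[.code,.eqn 0 false,.eqn 1 false,.eqn 0 false,.edge 2,.code,.eqn 7 false,.eqn 9 false,.edge 4,.code],[.code,.eqn 1 false,.eqn 0 false,.eqn 1 false,.edge 12,.code,.eqn 7 false,.edge 17,.code]⟩,
    ⟨76,2,3,0,false,[],[.eqn 15 false,.edge 22,.eqn 19 false,.eqn 20 false,.edge 22]⟩,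
    ⟨64,1,4,0,false,[],[.edge 3,.eqn 16 false,.eqn 23 true,.edge 22]⟩,
    ⟨448,1,1,3,true,[.code,.edge 5,.code],[.code]⟩,
    ⟨768,1,2,3,true,[.code,.eqn 11 true,.edge 5,.code],[.code,.edge 13,.code,.eqn 6 false,.eqn 7 false,.edge 17,.code,.eqn 23 true,.edge 18,.code]⟩,
    ⟨1920,2,2,1,true,[.code],[.code,.edge 3,.code,.eqn 7 false,.edge 17,.code,.edge 22,.code,.eqn 21 true,.eqn 24 true,.edge 25,.code]⟩,
    ⟨1921,2,2,11,false,[.code,.eqn 14 false,.edge 27,.code,.edge 26,.code,.eqn 23 true,.edge 17,.code,.eqn 6 false,.eqn 7 false,.edge 3,.code,.eqn 23 false,.edge 18,.code],[]⟩,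
    ⟨64,1,4,0,false,[],[.edge 3,.eqn 23 true,.eqn 28 false,.edge 22]⟩,
    ⟨0,0,3,0,false,[],[.eqn 0 false,.eqn 0 false,.eqn 1 false,.edge 12,.eqn 24 false,.eqn 29 true,.edge 13]⟩]⟩,
   [.edge 2,.eqn 30 true],
   [2519,2547]),
  (⟨[⟨false,0,0⟩,⟨false,64,1⟩,⟨false,384,1⟩,⟨false,448,1⟩],
   [⟨0,1,3,0,false,[],[.edge 2,.eqn 0 false,.eqn 1 false,.eqn 0 false,.eqn 1 false,.eqn 1 false,.eqn 0 true,.eqn 0 true,.eqn 1 true,.eqn 0 false,.eqn 1 true,.edge 2]⟩,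
    ⟨0,1,3,0,false,[],[.edge 2,.eqn 0 false,.eqn 1 false,.eqn 1 false,.eqn 0 false,.eqn 1 false,.eqn 1 false,.edge 2]⟩,
    ⟨0,1,3,0,false,[],[.edge 2,.eqn 0 false,.eqn 1 true,.eqn 0 true,.eqn 1 false,.eqn 0 false,.eqn 1 true,.eqn 0 true,.eqn 1 false,.edge 2]⟩,
    ⟨0,1,3,0,false,[],[.edge 2,.eqn 0 false,.eqn 1 true,.eqn 0 false,.eqn 1 true,.eqn 0 false,.eqn 1 true,.edge 2]⟩,
    ⟨0,1,3,0,false,[],[.edge 2,.eqn 0 false,.eqn 1 false,.eqn 0 false,.eqn 1 true,.eqn 0 false,.eqn 1 false,.eqn 0 false,.edge 2]⟩,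
    ⟨0,1,3,0,false,[],[.edge 2,.eqn 0 false,.eqn 1 false,.eqn 1 false,.eqn 1 false,.eqn 0 true,.edge 2]⟩,
    ⟨0,1,3,0,false,[],[.edge 2,.eqn 0 false,.eqn 1 false,.eqn 0 true,.eqn 1 true,.edge 2]⟩,
    ⟨0,0,1,3,true,[.code,.edge 2,.code],[.code]⟩,
    ⟨0,0,0,1,true,[.edge 2],[.eqn 0 false,.eqn 0 false,.eqn 1 false,.edge 13]⟩,
    ⟨0,2,3,0,false,[],[.edge 3,.eqn 9 false,.eqn 11 false,.edge 3]⟩,
    ⟨3,2,3,0,false,[],[.edge 3,.eqn 9 true,.eqn 10 true,.edge 3]⟩,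
    ⟨0,2,3,0,false,[],[.edge 3,.eqn 6 false,.edge 3]⟩,
    ⟨0,2,3,0,false,[],[.edge 3,.eqn 8 false,.eqn 9 false,.edge 3]⟩,
    ⟨64,1,1,3,true,[.code,.edge 3,.code],[.code]⟩,
    ⟨64,1,0,1,true,[.edge 3],[.eqn 7 false,.edge 19]⟩,
    ⟨0,3,3,0,false,[],[.edge 4,.eqn 7 false,.eqn 8 false,.eqn 8 false,.edge 4]⟩,
    ⟨0,3,3,0,false,[],[.edge 4,.eqn 10 false,.eqn 11 false,.edge 4]⟩,
    ⟨8,3,3,0,false,[],[.edge 4,.eqn 8 false,.eqn 12 false,.edge 4]⟩,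
    ⟨0,0,2,5,true,[.code,.eqn 1 true,.eqn 0 false,.edge 2,.code,.edge 4,.code],[.code,.eqn 1 false,.eqn 0 false,.eqn 1 false,.edge 13,.code,.eqn 8 false,.edge 19,.code]⟩,
    ⟨449,3,4,0,false,[],[.eqn 22 false,.eqn 23 true,.edge 24,.eqn 15 false,.eqn 17 false,.edge 24]⟩,
    ⟨76,2,3,0,false,[],[.eqn 16 false,.edge 24,.eqn 21 false,.eqn 25 false,.edge 24]⟩,
    ⟨33,4,3,0,false,[],[.edge 5,.eqn 6 false,.eqn 9 true,.eqn 11 false,.edge 5]⟩,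
    ⟨0,4,3,0,false,[],[.edge 5,.eqn 7 false,.eqn 9 true,.eqn 10 false,.edge 5]⟩,
    ⟨448,1,1,3,true,[.code,.edge 5,.code],[.code]⟩,
    ⟨768,1,2,3,true,[.code,.eqn 6 false,.eqn 12 true,.edge 5,.code],[.code,.edge 14,.code,.eqn 7 false,.eqn 8 false,.edge 19,.code,.eqn 26 true,.edge 20,.code]⟩,
    ⟨2496,1,2,7,true,[.code,.edge 13,.code,.eqn 1 false,.eqn 0 false,.eqn 1 false,.edge 2,.code,.eqn 8 true,.edge 5,.code],[.code,.eqn 6 false,.edge 29,.code]⟩,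
    ⟨2113,4,2,1,false,[.code],[.code,.eqn 27 false,.eqn 28 false,.edge 31,.code,.eqn 27 false,.eqn 28 false,.edge 31,.code,.edge 5,.code,.eqn 12 false,.edge 19,.code,.eqn 18 false,.eqn 26 true,.edge 30]⟩,
    ⟨448,1,4,0,false,[],[.edge 5,.eqn 32 false,.eqn 27 false,.eqn 32 false,.edge 5]⟩,
    ⟨0,0,3,0,false,[],[.eqn 0 false,.eqn 0 false,.eqn 1 false,.edge 13,.eqn 33 false,.edge 14]⟩]⟩,
   [.edge 2,.eqn 34 true],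
   [2525])]

end Cfsg.Agent.HSLocal.CollapseOne2
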