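import Cfsg.Agent.Lib.HSLocal.Cert

/-!
Certificates that `s` fixes the base point, with the values of the word for which they work.
-/

set_option autoImplicit false
set_option maxRecDepth 100000

namespace Cfsg.Agent.HSLocal.CollapseZero0

/-- The certificates. -/
def certs : List (Cert × List Move × List Nat) :=
  [(⟨[⟨false,0,0⟩,⟨false,64,1⟩,⟨false,384,1⟩,⟨false,448,1⟩],
   [⟨0,1,3,0,false,[],[.edge 2,.eqn 0 false,.eqn 1 false,.eqn 0 false,.eqn 1 false,.eqn 1 false,.eqn 0 true,.eqn 0 true,.eqn 1 true,.eqn 0 false,.eqn 1 true,.edge 2]⟩,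
    ⟨0,1,3,0,false,[],[.edge 2,.eqn 0 false,.eqn 1 false,.eqn 1 false,.eqn 0 false,.eqn 1 false,.eqn 1 false,.edge 2]⟩,
    ⟨0,1,3,0,false,[],[.edge 2,.eqn 0 false,.eqn 1 true,.eqn 0 true,.eqn 1 false,.eqn 0 false,.eqn 1 true,.eqn 0 true,.eqn 1 false,.edge 2]⟩,
    ⟨0,1,3,0,false,[],[.edge 2,.eqn 0 false,.eqn 1 true,.eqn 0 false,.eqn 1 true,.eqn 0 false,.eqn 1 true,.edge 2]⟩,
    ⟨0,1,3,0,false,[],[.edge 2,.eqn 0 false,.eqn 1 false,.eqn 0 false,.eqn 1 true,.eqn 0 false,.eqn 1 false,.eqn 0 false,.edge 2]⟩,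
    ⟨0,1,3,0,false,[],[.edge 2,.eqn 0 false,.eqn 1 false,.eqn 1 false,.eqn 1 false,.eqn 0 true,.edge 2]⟩,
    ⟨0,1,3,0,false,[],[.edge 2,.eqn 0 false,.eqn 1 false,.eqn 0 true,.eqn 1 true,.edge 2]⟩,
    ⟨0,0,1,3,true,[.code,.edge 2,.code],[.code]⟩,
    ⟨0,0,0,1,true,[.edge 2],[.eqn 0 false,.eqn 0 false,.eqn 1 false,.edge 13]⟩,
    ⟨3,2,3,0,false,[],[.edge 3,.eqn 9 true,.eqn 10 false,.edge 3]⟩,
    ⟨0,2,3,0,false,[],[.edge 3,.eqn 6 false,.edge 3]⟩,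
    ⟨64,1,1,3,true,[.code,.edge 3,.code],[.code]⟩,
    ⟨64,1,0,1,true,[.edge 3],[.eqn 7 false,.edge 17]⟩,
    ⟨0,3,3,0,false,[],[.edge 4,.eqn 10 false,.eqn 11 false,.edge 4]⟩,
    ⟨8,3,3,0,false,[],[.edge 4,.eqn 8 false,.eqn 12 false,.edge 4]⟩,
    ⟨0,0,2,5,true,[.code,.eqn 1 true,.eqn 1 true,.edge 2,.code,.eqn 8 false,.eqn 10 false,.edge 4,.code],[.code,.edge 13,.code,.eqn 12 true,.edge 17,.code]⟩,
    ⟨202,2,3,0,false,[],[.eqn 15 true,.edge 21,.eqn 19 false,.eqn 20 true,.edge 21]⟩,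
    ⟨192,1,4,0,false,[],[.edge 3,.eqn 22 true,.edge 21]⟩,
    ⟨0,4,3,0,false,[],[.edge 5,.eqn 7 false,.eqn 9 true,.eqn 10 true,.edge 5]⟩,
    ⟨0,4,3,0,false,[],[.edge 5,.eqn 6 false,.eqn 7 false,.edge 5]⟩,
    ⟨0,1,2,3,true,[.code,.eqn 8 false,.eqn 12 false,.edge 5,.code],[.code,.edge 14,.code,.eqn 7 false,.eqn 8 false,.edge 17,.code,.eqn 22 true,.edge 18,.code]⟩,
    ⟨2309,2,3,0,false,[],[.eqn 15 false,.eqn 16 false,.eqn 22 true,.edge 26,.eqn 24 false,.eqn 25 false,.edge 26]⟩,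
    ⟨64,1,4,0,false,[],[.edge 3,.eqn 27 false,.edge 21]⟩,
    ⟨0,0,3,0,false,[],[.eqn 0 false,.eqn 0 false,.eqn 1 false,.edge 13,.eqn 23 false,.eqn 28 true,.edge 14]⟩]⟩,
   [.edge 2,.eqn 29 true],
   [576,583,585,590,592,599,601,606,608,615,617,622,624,631,633,638,3395,3396,3402,3405,3411,3412,3418,3421,3427,3428,3434,3437,3443,3444,3450,3453,5826,5829,5835,5836,5842,5845,5851,5852,5858,5861,5867,5868,5874,5877,5883,5884,7553,7558,7560,7567,7569,7574,7576,7583,7585,7590,7592,7599,7601,7606,7608,7615]),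
  (⟨[⟨false,0,0⟩,⟨false,64,1⟩,⟨false,384,1⟩,⟨false,448,1⟩],
   [⟨0,1,3,0,false,[],[.edge 2,.eqn 0 false,.eqn 1 false,.eqn 0 false,.eqn 1 false,.eqn 1 false,.eqn 0 true,.eqn 0 true,.eqn 1 true,.eqn 0 false,.eqn 1 true,.edge 2]⟩,
    ⟨0,1,3,0,false,[],[.edge 2,.eqn 0 false,.eqn 1 false,.eqn 1 false,.eqn 0 false,.eqn 1 false,.eqn 1 false,.edge 2]⟩,
    ⟨0,1,3,0,false,[],[.edge 2,.eqn 0 false,.eqn 1 true,.eqn 0 true,.eqn 1 false,.eqn 0 false,.eqn 1 true,.eqn 0 true,.eqn 1 false,.edge 2]⟩,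
    ⟨0,1,3,0,false,[],[.edge 2,.eqn 0 false,.eqn 1 true,.eqn 0 false,.eqn 1 true,.eqn 0 false,.eqn 1 true,.edge 2]⟩,
    ⟨0,1,3,0,false,[],[.edge 2,.eqn 0 false,.eqn 1 false,.eqn 0 false,.eqn 1 true,.eqn 0 false,.eqn 1 false,.eqn 0 false,.edge 2]⟩,
    ⟨0,1,3,0,false,[],[.edge 2,.eqn 0 false,.eqn 1 false,.eqn 1 false,.eqn 1 false,.eqn 0 true,.edge 2]⟩,
    ⟨0,1,3,0,false,[],[.edge 2,.eqn 0 false,.eqn 1 false,.eqn 0 true,.eqn 1 true,.edge 2]⟩,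
    ⟨0,0,1,3,true,[.code,.edge 2,.code],[.code]⟩,
    ⟨0,0,0,1,true,[.edge 2],[.eqn 0 false,.eqn 0 false,.eqn 1 false,.edge 13]⟩,
    ⟨3,2,3,0,false,[],[.edge 3,.eqn 9 true,.eqn 10 false,.edge 3]⟩,
    ⟨0,2,3,0,false,[],[.edge 3,.eqn 6 false,.edge 3]⟩,
    ⟨64,1,1,3,true,[.code,.edge 3,.code],[.code]⟩,
    ⟨64,1,0,1,true,[.edge 3],[.eqn 7 false,.edge 17]⟩,
    ⟨0,3,3,0,false,[],[.edge 4,.eqn 10 false,.eqn 11 false,.edge 4]⟩,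
    ⟨8,3,3,0,false,[],[.edge 4,.eqn 8 false,.eqn 12 false,.edge 4]⟩,
    ⟨0,0,2,5,true,[.code,.eqn 0 true,.eqn 1 true,.edge 2,.code,.edge 4,.code],[.code,.edge 13,.code,.eqn 12 true,.edge 17,.code]⟩,
    ⟨202,2,3,0,false,[],[.eqn 15 true,.edge 21,.eqn 19 false,.eqn 20 true,.edge 21]⟩,
    ⟨192,1,4,0,false,[],[.edge 3,.eqn 22 true,.edge 21]⟩,
    ⟨0,4,3,0,false,[],[.edge 5,.eqn 7 false,.eqn 9 true,.eqn 10 true,.edge 5]⟩,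
    ⟨0,4,3,0,false,[],[.edge 5,.eqn 6 false,.eqn 7 false,.edge 5]⟩,
    ⟨0,1,2,3,true,[.code,.eqn 6 false,.eqn 12 false,.edge 5,.code],[.code,.edge 14,.code,.eqn 7 false,.eqn 8 false,.edge 17,.code,.eqn 22 true,.edge 18,.code]⟩,
    ⟨2309,2,3,0,false,[],[.eqn 15 false,.eqn 16 false,.eqn 22 true,.edge 26,.eqn 24 false,.eqn 25 false,.edge 26]⟩,
    ⟨64,1,4,0,false,[],[.edge 3,.eqn 27 false,.edge 21]⟩,
    ⟨0,0,3,0,false,[],[.eqn 0 false,.eqn 0 false,.eqn 1 false,.edge 13,.eqn 23 false,.eqn 28 true,.edge 14]⟩]⟩,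
   [.edge 2,.eqn 29 true],
   [960,967,969,974,976,983,985,990,992,999,1001,1006,1008,1015,1017,1022,4291,4292,4298,4301,4307,4308,4314,4317,4323,4324,4330,4333,4339,4340,4346,4349,4930,4933,4939,4940,4946,4949,4955,4956,4962,4965,4971,4972,4978,4981,4987,4988,7169,7174,7176,7183,7185,7190,7192,7199,7201,7206,7208,7215,7217,7222,7224,7231]),
  (⟨[⟨false,0,0⟩,⟨false,64,1⟩,⟨false,384,1⟩,⟨false,448,1⟩],
   [⟨0,1,3,0,false,[],[.edge 2,.eqn 0 false,.eqn 1 false,.eqn 0 false,.eqn 1 false,.eqn 1 false,.eqn 0 true,.eqn 0 true,.eqn 1 true,.eqn 0 false,.eqn 1 true,.edge 2]⟩,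
    ⟨0,1,3,0,false,[],[.edge 2,.eqn 0 false,.eqn 1 false,.eqn 1 false,.eqn 0 false,.eqn 1 false,.eqn 1 false,.edge 2]⟩,
    ⟨0,1,3,0,false,[],[.edge 2,.eqn 0 false,.eqn 1 true,.eqn 0 true,.eqn 1 false,.eqn 0 false,.eqn 1 true,.eqn 0 true,.eqn 1 false,.edge 2]⟩,
    ⟨0,1,3,0,false,[],[.edge 2,.eqn 0 false,.eqn 1 true,.eqn 0 false,.eqn 1 true,.eqn 0 false,.eqn 1 true,.edge 2]⟩,
    ⟨0,1,3,0,false,[],[.edge 2,.eqn 0 false,.eqn 1 false,.eqn 0 false,.eqn 1 true,.eqn 0 false,.eqn 1 false,.eqn 0 false,.edge 2]⟩,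
    ⟨0,1,3,0,false,[],[.edge 2,.eqn 0 false,.eqn 1 false,.eqn 1 false,.eqn 1 false,.eqn 0 true,.edge 2]⟩,
    ⟨0,1,3,0,false,[],[.edge 2,.eqn 0 false,.eqn 1 false,.eqn 0 true,.eqn 1 true,.edge 2]⟩,
    ⟨0,0,1,3,true,[.code,.edge 2,.code],[.code]⟩,
    ⟨0,0,0,1,true,[.edge 2],[.eqn 0 false,.eqn 0 false,.eqn 1 false,.edge 13]⟩,
    ⟨3,2,3,0,false,[],[.edge 3,.eqn 9 true,.eqn 10 false,.edge 3]⟩,
    ⟨0,2,3,0,false,[],[.edge 3,.eqn 6 false,.edge 3]⟩,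
    ⟨64,1,1,3,true,[.code,.edge 3,.code],[.code]⟩,
    ⟨64,1,0,1,true,[.edge 3],[.eqn 7 false,.edge 17]⟩,
    ⟨0,3,3,0,false,[],[.edge 4,.eqn 10 false,.eqn 11 false,.edge 4]⟩,
    ⟨8,3,3,0,false,[],[.edge 4,.eqn 8 false,.eqn 12 false,.edge 4]⟩,
    ⟨0,0,2,5,true,[.code,.eqn 1 true,.eqn 0 false,.eqn 1 false,.edge 2,.code,.eqn 10 false,.edge 4,.code],[.code,.edge 13,.code,.eqn 12 true,.edge 17,.code]⟩,
    ⟨202,2,3,0,false,[],[.eqn 15 true,.edge 21,.eqn 19 false,.eqn 20 true,.edge 21]⟩,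
    ⟨192,1,4,0,false,[],[.edge 3,.eqn 22 true,.edge 21]⟩,
    ⟨0,4,3,0,false,[],[.edge 5,.eqn 7 false,.eqn 9 true,.eqn 10 true,.edge 5]⟩,
    ⟨0,4,3,0,false,[],[.edge 5,.eqn 6 false,.eqn 7 false,.edge 5]⟩,
    ⟨0,1,2,3,true,[.code,.eqn 12 false,.edge 5,.code],[.code,.edge 14,.code,.eqn 7 false,.eqn 8 false,.edge 17,.code,.eqn 22 true,.edge 18,.code]⟩,
    ⟨2309,2,3,0,false,[],[.eqn 15 false,.eqn 16 false,.eqn 22 true,.edge 26,.eqn 24 false,.eqn 25 false,.edge 26]⟩,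
    ⟨64,1,4,0,false,[],[.edge 3,.eqn 27 false,.edge 21]⟩,
    ⟨0,0,3,0,false,[],[.eqn 0 false,.eqn 0 false,.eqn 1 false,.edge 13,.eqn 23 false,.eqn 28 true,.edge 14]⟩]⟩,
   [.edge 2,.eqn 29 true],
   [961,966,968,975,977,982,984,991,993,998,1000,1007,1009,1014,1016,1023,4290,4293,4299,4300,4306,4309,4315,4316,4322,4325,4331,4332,4338,4341,4347,4348,4931,4932,4938,4941,4947,4948,4954,4957,4963,4964,4970,4973,4979,4980,4986,4989,7168,7175,7177,7182,7184,7191,7193,7198,7200,7207,7209,7214,7216,7223,7225,7230]),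
  (⟨[⟨false,0,0⟩,⟨false,64,1⟩,⟨false,384,1⟩,⟨false,448,1⟩],
   [⟨0,1,3,0,false,[],[.edge 2,.eqn 0 false,.eqn 1 false,.eqn 0 false,.eqn 1 false,.eqn 1 false,.eqn 0 true,.eqn 0 true,.eqn 1 true,.eqn 0 false,.eqn 1 true,.edge 2]⟩,
    ⟨0,1,3,0,false,[],[.edge 2,.eqn 0 false,.eqn 1 false,.eqn 1 false,.eqn 0 false,.eqn 1 false,.eqn 1 false,.edge 2]⟩,
    ⟨0,1,3,0,false,[],[.edge 2,.eqn 0 false,.eqn 1 true,.eqn 0 true,.eqn 1 false,.eqn 0 false,.eqn 1 true,.eqn 0 true,.eqn 1 false,.edge 2]⟩,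
    ⟨0,1,3,0,false,[],[.edge 2,.eqn 0 false,.eqn 1 true,.eqn 0 false,.eqn 1 true,.eqn 0 false,.eqn 1 true,.edge 2]⟩,
    ⟨0,1,3,0,false,[],[.edge 2,.eqn 0 false,.eqn 1 false,.eqn 0 false,.eqn 1 true,.eqn 0 false,.eqn 1 false,.eqn 0 false,.edge 2]⟩,
    ⟨0,1,3,0,false,[],[.edge 2,.eqn 0 false,.eqn 1 false,.eqn 1 false,.eqn 1 false,.eqn 0 true,.edge 2]⟩,
    ⟨0,1,3,0,false,[],[.edge 2,.eqn 0 false,.eqn 1 false,.eqn 0 true,.eqn 1 true,.edge 2]⟩,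
    ⟨0,0,1,3,true,[.code,.edge 2,.code],[.code]⟩,
    ⟨0,0,0,1,true,[.edge 2],[.eqn 0 false,.eqn 0 false,.eqn 1 false,.edge 13]⟩,
    ⟨3,2,3,0,false,[],[.edge 3,.eqn 9 true,.eqn 10 false,.edge 3]⟩,
    ⟨0,2,3,0,false,[],[.edge 3,.eqn 6 false,.edge 3]⟩,
    ⟨64,1,1,3,true,[.code,.edge 3,.code],[.code]⟩,
    ⟨64,1,0,1,true,[.edge 3],[.eqn 7 false,.edge 17]⟩,
    ⟨0,3,3,0,false,[],[.edge 4,.eqn 10 false,.eqn 11 false,.edge 4]⟩,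
    ⟨8,3,3,0,false,[],[.edge 4,.eqn 8 false,.eqn 12 false,.edge 4]⟩,
    ⟨0,0,2,5,true,[.code,.eqn 0 true,.eqn 1 false,.eqn 1 false,.edge 2,.code,.edge 4,.code],[.code,.edge 13,.code,.eqn 12 true,.edge 17,.code]⟩,
    ⟨202,2,3,0,false,[],[.eqn 15 true,.edge 21,.eqn 19 false,.eqn 20 true,.edge 21]⟩,
    ⟨192,1,4,0,false,[],[.edge 3,.eqn 22 true,.edge 21]⟩,
    ⟨0,4,3,0,false,[],[.edge 5,.eqn 7 false,.eqn 9 true,.eqn 10 true,.edge 5]⟩,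
    ⟨0,4,3,0,false,[],[.edge 5,.eqn 6 false,.eqn 7 false,.edge 5]⟩,
    ⟨0,1,2,3,true,[.code,.eqn 8 true,.eqn 12 false,.edge 5,.code],[.code,.edge 14,.code,.eqn 7 false,.eqn 8 false,.edge 17,.code,.eqn 22 true,.edge 18,.code]⟩,
    ⟨2309,2,3,0,false,[],[.eqn 15 false,.eqn 16 false,.eqn 22 true,.edge 26,.eqn 24 false,.eqn 25 false,.edge 26]⟩,
    ⟨64,1,4,0,false,[],[.edge 3,.eqn 27 false,.edge 21]⟩,
    ⟨0,0,3,0,false,[],[.eqn 0 false,.eqn 0 false,.eqn 1 false,.edge 13,.eqn 23 false,.eqn 28 true,.edge 14]⟩]⟩,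
   [.edge 2,.eqn 29 true],
   [577,582,584,591,593,598,600,607,609,614,616,623,625,630,632,639,3394,3397,3403,3404,3410,3413,3419,3420,3426,3429,3435,3436,3442,3445,3451,3452,5827,5828,5834,5837,5843,5844,5850,5853,5859,5860,5866,5869,5875,5876,5882,5885,7552,7559,7561,7566,7568,7575,7577,7582,7584,7591,7593,7598,7600,7607,7609,7614])]

end Cfsg.Agent.HSLocal.CollapseZero0
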