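import Cfsg.Agent.Lib.HSLocal.Coord.HCoord

/-!
An element of order three outside the centraliser which cycles the involutions of a four-group of `R`.
-/

set_option autoImplicit false
set_option maxRecDepth 100000

namespace Cfsg.Agent.HSLocal

/-- For every involution code of the core other than `32`, a code conjugating it to `1`. -/
def elementWitness : List (ℕ × ℕ) :=
  [(1, 0), (2, 516), (3, 388), (4, 6148), (6, 576), (8, 6336), (9, 1344), (12, 6272), (15, 704), (21, 644),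
    (23, 1284), (26, 260), (27, 68), (29, 448), (30, 1156), (33, 4), (34, 512), (35, 384), (36, 6144), (38, 580),
    (40, 6340), (41, 1348), (44, 6276), (47, 708), (53, 640), (55, 1280), (58, 256), (59, 64), (61, 452),
    (62, 1152)]

theorem elementWitness_all : (List.range 64).all (fun r => Nat.beq r 0 || Nat.beq r 32 || !Nat.beq (mul r r) 0 ||
    elementWitness.any fun p => Nat.beq p.1 r && Nat.blt p.2 7680 && Nat.beq (mul p.2 r) (mul 1 p.2)) = true := by
  decide +kernel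

theorem elementWitness_spec (r : ℕ) (hr : r < 64) (h0 : r ≠ 0) (h32 : r ≠ 32) (hinv : mul r r = 0) :
    ∃ k, k < 7680 ∧ mul k r = mul 1 k := by
  have h := List.all_eq_true.1 elementWitness_all r (List.mem_range.2 hr)
  simp only [Bool.or_eq_true, Bool.not_eq_true', Nat.beq_eq, List.any_eq_true, Bool.and_eq_true,
    Nat.blt_eq] at h
  rcases h with ((h | h) | h) | ⟨p, -, ⟨rfl, hk⟩, he⟩
  · exact absurd h h0
  · exact absurd h h32
  · rw [hinv] at h; exact absurd h (by decide)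
  · exact ⟨p.2, hk, he⟩

namespace Coord

theorem cycle_facts : mulC 0 512 (mulC 0 512 512) = 0 ∧ cjC 0 512 2 = 8 ∧ cjC 0 512 8 = mulC 0 2 8 ∧
    8 ∈ coreList 0 ∧ mulC 0 8 8 = 0 ∧ mul 32 1 = 33 := by
  decide +kernel

variable {G : Type*} [Group G] [Finite G] {t : G} {R V : Subgroup G}

/-- The element of order three, in terms of a given coordinate system. -/
theorem HGen.exists_element (D : HGen t R V) (F : GFrame t R V) :
    ∃ s : G, s * s * s = 1 ∧ s * t * s⁻¹ = D.rho 1 ∧ s * D.rho 1 * s⁻¹ = D.rho 33 := by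
  obtain ⟨c1, c2, c3, c4, c5, c6⟩ := cycle_facts
  have K := D.coord F
  have h2 : D.C.P.el 2 = t := D.C.two
  have hz : D.rho 32 = t := K.zc_eq
  have hcube : D.C.P.el 512 * D.C.P.el 512 * D.C.P.el 512 = 1 := by
    rw [mul_assoc, ← D.C.P.el_mulC, ← D.C.P.el_mulC, c1, D.C.P.el_zero]
  have hst : D.C.P.el 512 * t * (D.C.P.el 512)⁻¹ = D.C.P.el 8 := by
    have e := D.C.P.el_cjC 512 2
    rw [c2, h2] at e
    exact e.symm
  have hsv : D.C.P.el 512 * D.C.P.el 8 * (D.C.P.el 512)⁻¹ = t * D.C.P.el 8 := by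
    rw [← D.C.P.el_cjC, c3, D.C.P.el_mulC, h2]
  have hvv : D.C.P.el 8 * D.C.P.el 8 = 1 := by rw [← D.C.P.el_mulC, c5, D.C.P.el_zero]
  obtain ⟨r, hr, hrv⟩ := D.mem_R.1 ((D.C.memR _).2 ⟨8, c4, rfl⟩)
  have h0 : r ≠ 0 := by
    rintro rfl
    rw [D.rho_zero, ← D.C.P.el_zero] at hrv
    exact absurd (D.C.inj _ (by norm_num) _ (by norm_num) hrv) (by norm_num)
  have h32 : r ≠ 32 := by
    rintro rfl
    have e : D.C.P.el 2 = D.C.P.el 8 := h2.trans (hz.symm.trans hrv)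
    exact absurd (D.C.inj _ (by norm_num) _ (by norm_num) e) (by norm_num)
  have hinv : mul r r = 0 := D.rho_eq (mul_lt _ _) (by norm_num)
    (by rw [D.rho_mul (by omega) (by omega), hrv, hvv, D.rho_zero])
  obtain ⟨k, hk, hke⟩ := elementWitness_spec r hr h0 h32 hinv
  have hconj : D.rho k * D.C.P.el 8 * (D.rho k)⁻¹ = D.rho 1 := by
    rw [← hrv, ← D.rho_mul hk (by omega), hke, D.rho_mul (by norm_num) hk, mul_inv_cancel_right]
  have hkt : D.rho k * t * (D.rho k)⁻¹ = t := by rw [K.mem k hk, mul_inv_cancel_right]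
  have hT : D.rho 33 = t * D.rho 1 := by rw [← c6, D.rho_mul (by norm_num) (by norm_num), hz]
  have hconjMul : ∀ h a b : G, h * a * h⁻¹ * (h * b * h⁻¹) = h * (a * b) * h⁻¹ := fun h a b => by group
  refine ⟨D.rho k * D.C.P.el 512 * (D.rho k)⁻¹, ?_, ?_, ?_⟩
  · rw [hconjMul, hconjMul, hcube, mul_one, mul_inv_cancel]
  · calc _ = D.rho k * (D.C.P.el 512 * ((D.rho k)⁻¹ * t * D.rho k) * (D.C.P.el 512)⁻¹) * (D.rho k)⁻¹ := by group
      _ = D.rho k * (D.C.P.el 512 * t * (D.C.P.el 512)⁻¹) * (D.rho k)⁻¹ := by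
        rw [mul_assoc (D.rho k)⁻¹, ← K.mem k hk, inv_mul_cancel_left]
      _ = _ := by rw [hst, hconj]
  · rw [← hconj, hT, ← hconj]
    calc _ = D.rho k * (D.C.P.el 512 * D.C.P.el 8 * (D.C.P.el 512)⁻¹) * (D.rho k)⁻¹ := by group
      _ = D.rho k * t * (D.rho k)⁻¹ * (D.rho k * D.C.P.el 8 * (D.rho k)⁻¹) := by rw [hsv, hconjMul]
      _ = _ := by rw [hkt]

end Coord

/-- **An element of order three moving `t`**, from the hypotheses of the characterisation. -/
theorem exists_element {G : Type*} [Group G] [Finite G]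
    (t : G) (ht : orderOf t = 2) (H : Subgroup G) (hH : H = Subgroup.centralizer ({t} : Set G))
    (R : Subgroup G) (hR : R = (Cfsg.pCore 2 H).map H.subtype)
    (Cy E : Subgroup G) (hCy : IsCyclic Cy) (hCycard : Nat.card Cy = 4)
    (hCyle : Cy ≤ R ⊓ Subgroup.centralizer (R : Set G))
    (hEle : E ≤ R) (hEex : Cfsg.IsExtraspecial 2 E) (hEcard : Nat.card E = 32)
    (hprod : Cy ⊔ E = R) (hmeet : Cy ⊓ E = E ⊓ Subgroup.centralizer (E : Set G))
    (eH : H ⧸ Cfsg.pCore 2 H ≃* Equiv.Perm (Fin 5))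
    (V : Subgroup G) (hVcomm : IsMulCommutative V) (hVexp : ∀ v ∈ V, v ^ 2 = 1) (hVcard : Nat.card V = 8)
    (hVR : V ≤ R) (M : Subgroup G) (hM : M = Subgroup.normalizer (V : Set G))
    (eOM : Cfsg.pCore 2 M ≃* Multiplicative (ZMod 4 × ZMod 4 × ZMod 4))
    (eM : M ⧸ Cfsg.pCore 2 M ≃* GL (Fin 3) (ZMod 2)) :
    ∃ (ρ : ℕ → G) (s : G), Coord t ρ ∧ s * s * s = 1 ∧ s * t * s⁻¹ = ρ 1 ∧ s * ρ 1 * s⁻¹ = ρ 33 := by
  obtain ⟨F, ⟨D⟩⟩ := Coord.exists_hgen t ht H hH R hR Cy E hCy hCycard hCyle hEle hEex hEcard hprod hmeet eH V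
    hVcomm hVexp hVcard hVR M hM eOM eM
  obtain ⟨s, h1, h2, h3⟩ := D.exists_element F
  exact ⟨D.rho, s, D.coord F, h1, h2, h3⟩

end Cfsg.Agent.HSLocal
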