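import Cfsg.Agent.Lib.HSLocal.Sound
import Cfsg.Agent.Lib.HSLocal.Hom

/-!
# The two candidate extensions

The relations between the coordinates of the centralizer of `t` and an element `s` of order three permuting
`t`, `x 0` and their product: the automorphism induced on the centralizer of `x 0`, the twist by `ec`, and
the value `d` of one word that centralizes `t`. The first candidate collapses for all values of `d`; the
second for all but `dOne`, which is the Higman–Sims group.
-/

set_option autoImplicit false

namespace Cfsg.Agent.HSLocal

universe v

/-- The automorphism of the first candidate. -/
def autZero : Auto := ⟨AData.fwd0, AData.bwd0⟩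

/-- The automorphism of the second candidate. -/
def autOne : Auto := ⟨AData.fwd1, AData.bwd1⟩

/-- The twist of the first candidate. -/
def ccZero : ℕ := 1546

/-- The twist of the second candidate. -/
def ccOne : ℕ := 178

/-- The word of the first candidate, first letter acting first. -/
def wordZero : List Letter := [.s, .code 3078, .s, .code 6263, .s, .code 5676, .s, .code 7437, .s, .code 5393]

/-- The word of the second candidate, first letter acting first. -/
def wordOne : List Letter := [.s, .code 3619, .s, .code 6699, .s, .code 4037, .s, .code 7430, .s, .code 1957]

/-- The surviving value of the word of the second candidate. -/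
def dOne : ℕ := 4077

/-- The codes, `s` and the relations shared by both candidates. -/
structure Rels {G : Type v} [Group G] (ρ : ℕ → G) (s : G) (A : Auto) (cc : ℕ) : Prop where
  mul_eq : ∀ a b, ρ (mul a b) = ρ a * ρ b
  zero : ρ 0 = 1
  mod_eq : ∀ a, ρ (a % 7680) = ρ a
  sconj : ∀ r, inCU r = true → s * ρ r = ρ (A.phi r) * s
  cube : s * s * s = 1
  twist : ρ ec * s * ρ ec * s = ρ cc

end Cfsg.Agent.HSLocal
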