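import Mathlib.Data.Nat.Notation

/-!
Orbits along the stabilizer chain of the witness: a point, the number of a word of its level, and the
position of the point it is the image of.
-/

namespace Cfsg.Agent.HSLocal.Witness.Data

/-- The orbits. -/
def orbits : List (List (Nat × Nat × Nat)) :=
  [[(0,0,0),(12,0,0),(69,1,0),(64,2,0),(61,0,1),(17,1,1),(49,2,1),(3,0,2),(30,1,2),(91,2,2),(50,0,3),(85,1,4),(18,2,4),(62,1,5),(56,1,6),(26,0,7),(89,1,7),(4,2,7),(97,0,8),(92,2,8),(71,0,9),(68,2,9),(13,1,10),(6,0,11),(79,1,11),(7,2,11),(88,1,12),(23,0,13),(65,2,13),(9,2,14),(86,0,15),(41,1,15),(57,2,15),(52,0,16),(10,1,16),(22,2,16),(21,2,17),(32,0,18),(36,2,18),(14,1,19),(25,2,19),(38,2,20),(20,1,21),(76,0,22),(54,1,22),(11,2,22),(70,0,23),(53,1,23),(66,0,24),(15,2,24),(58,0,25),(24,1,25),(34,2,25),(27,0,26),(98,1,26),(94,0,27),(45,2,27),(48,0,28),(72,1,28),(90,2,28),(35,0,29),(81,1,29),(75,1,30),(5,0,31),(63,1,31),(82,2,31),(96,1,32),(95,2,32),(74,0,33),(51,1,33),(93,1,36),(39,2,38),(55,1,41),(33,0,42),(59,2,42),(84,2,43),(8,2,44),(29,0,46),(47,2,47),(77,2,48),(28,2,49),(80,2,50),(16,2,55),(40,1,60),(43,1,61),(46,0,62),(99,2,73),(2,2,74),(44,1,76),(87,1,80),(19,1,83),(42,2,84),(73,1,86),(31,2,86),(37,2,87),(78,2,91),(60,2,92),(83,2,93),(1,2,94),(67,2,97)],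
   [(23,0,0),(48,0,0),(69,1,0),(71,0,1),(93,1,1),(50,0,2),(41,1,2),(33,0,3),(30,0,4),(27,1,4),(39,0,5),(82,1,5),(49,0,6),(63,1,6),(25,1,7),(89,0,8),(70,1,8),(68,0,9),(57,1,9),(34,0,10),(40,1,10),(67,0,11),(77,1,11),(95,0,12),(91,1,12),(72,0,13),(51,1,13),(64,0,15),(94,1,15),(26,1,16),(38,0,17),(43,1,17),(59,0,18),(35,0,19),(56,1,20),(97,0,21),(76,1,21),(37,0,22),(24,1,22),(84,0,23),(99,0,24),(54,1,24),(80,0,25),(88,1,25),(46,0,26),(86,1,28),(98,0,29),(61,1,29),(36,1,30),(31,0,31),(73,0,32),(81,0,33),(28,1,33),(60,1,34),(65,0,35),(53,1,35),(79,0,36),(44,0,37),(42,1,37),(55,1,38),(83,0,41),(45,1,41),(47,1,42),(90,1,44),(66,1,45),(58,0,46),(78,1,48),(87,0,49),(96,0,52),(75,1,55),(32,0,59),(92,0,61),(85,1,63),(62,1,64),(29,0,68),(74,0,72),(52,1,72)],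
   [(24,0,0),(52,0,0),(54,1,0),(93,0,1),(25,1,1),(90,0,2),(58,0,3),(45,1,3),(60,0,4),(26,1,4),(28,0,5),(74,1,5),(50,0,6),(42,1,6),(46,0,7),(36,1,7),(59,0,8),(70,1,8),(44,0,9),(53,1,9),(47,0,10),(27,1,10),(29,0,11),(69,0,12),(34,0,13),(37,1,13),(55,0,14),(35,1,14),(73,1,15),(43,0,17),(89,1,17),(82,0,18),(71,1,18),(86,0,19),(96,0,20),(41,1,20),(85,0,21),(65,1,21),(32,0,22),(51,1,22),(68,0,23),(84,1,23),(99,0,24),(31,1,24),(64,1,26),(78,1,27),(83,0,28),(57,0,29),(30,0,30),(39,1,30),(88,1,32),(79,0,33),(75,0,35),(61,1,35),(95,0,36),(92,0,37),(63,0,38),(40,0,39),(67,0,41),(80,0,49)],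
   [(27,0,0),(57,0,0),(73,0,1),(68,1,1),(93,0,2),(60,1,2),(71,0,3),(46,1,3),(70,1,4),(85,0,5),(75,1,5),(36,0,6),(45,1,6),(89,0,7),(35,0,8),(88,1,8),(39,0,10),(32,0,11),(28,1,11),(92,1,12),(80,0,13),(59,1,13),(31,0,14),(79,1,14),(29,1,17),(65,0,19),(44,0,21),(67,1,21),(86,1,23),(34,1,24),(51,1,26),(78,0,29)],
   [(1,0,0),(2,0,0),(11,0,1)]]

end Cfsg.Agent.HSLocal.Witness.Data
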