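import Cfsg.Agent.Lib.HSLocal.Close.Frame
import Cfsg.Agent.Lib.HSLocal.Close.WitnessData
import Cfsg.Agent.Lib.HSLocal.Close.WitnessOrbits
import Cfsg.Agent.Lib.HSMult.Model

/-!
# The Higman–Sims group realises the second candidate

An element is determined by the images of five points, since the orbits along the stabilizer chain already
account for the order of the group. The coordinates are products of seven generators along `codeWord`; their
multiplication reduces to products with one generator.
-/

set_option autoImplicit false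
set_option maxRecDepth 100000
set_option linter.unusedSectionVars false
set_option linter.style.haveILetI false

namespace Cfsg.Agent.HSLocal.Witness

open Cfsg Cfsg.Agent.Lib.HSMult Cfsg.Agent.Lib.PcMult

theorem perms_ok : permsB Data.perms Data.swaps = true := by decide +kernel

/-- The words have letters below eight. -/
def smallB (w : List ℕ) : Bool := w.all fun k => Nat.blt k 8

theorem of_smallB {w : List ℕ} (h : smallB w = true) : ∀ k ∈ w, k < Data.perms.length := fun k hk => by
  have := List.all_eq_true.1 h k hk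
  simpa [Nat.blt, Data.perms] using this

/-- The image of a point under a word. -/
def im (w : List ℕ) (b : Fin 100) : ℕ := (evW Data.perms w b).1

/-! ### The stabilizer chain -/

/-- One level: the base point, the words, and the orbit. -/
abbrev Level := Fin 100 × List (List ℕ) × List (ℕ × ℕ × ℕ)

/-- The check of a level above the points `pre`. -/
def levelB (pre : List (Fin 100)) (L : Level) : Bool :=
  (L.2.1.all fun w => smallB w && pre.all fun c => Nat.beq (im w c) c.1) &&
  ((List.range L.2.2.length).all fun i =>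
    let e := L.2.2.getD i (0, 0, 0)
    if i = 0 then Nat.beq e.1 L.1.1
    else Nat.blt e.2.2 i && Nat.blt e.2.1 L.2.1.length &&
      Nat.beq (im (L.2.1.getD e.2.1 []) (Fin.ofNat 100 (L.2.2.getD e.2.2 (0, 0, 0)).1)) e.1) &&
  ((List.range L.2.2.length).all fun i => (List.range i).all fun j =>
    !Nat.beq (L.2.2.getD i (0, 0, 0)).1 (L.2.2.getD j (0, 0, 0)).1)

/-- The check of all levels. -/
def levelsB : List (Fin 100) → List Level → Bool
  | _, [] => true
  | pre, L :: Ls => levelB pre L && levelsB (L.1 :: pre) Ls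

/-- The points fixed at the end. -/
def lastPts : List (Fin 100) → List Level → List (Fin 100)
  | pre, [] => pre
  | pre, L :: Ls => lastPts (L.1 :: pre) Ls

/-- The levels. -/
def levels : List Level :=
  (Data.chain.zip Data.orbits).map fun x => (Fin.ofNat 100 x.1.1, x.1.2.2, x.2)

theorem levels_ok : levelsB [] levels = true := by decide +kernel

theorem levels_card : (levels.map fun L => L.2.2.length).prod = 44352000 := by decide +kernel

/-- The five points. -/
def base : List (Fin 100) := lastPts [] levels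

/-- Two words agree on the five points. -/
def eq5 (u v : List ℕ) : Bool :=
  smallB u && smallB v && base.all fun b => Nat.beq (im u b) (im v b)

variable (R : Lib.HSMult.Real)

/-- The elements fixing the given points. -/
def fixS (l : List (Fin 100)) : Subgroup Spor.HS where
  carrier := {x | ∀ b ∈ l, R.φ x b = b}
  one_mem' := fun b _ => by rw [map_one]; rfl
  mul_mem' := fun {x y} hx hy b hb => by rw [map_mul, Equiv.Perm.mul_apply, hy b hb, hx b hb]
  inv_mem' := fun {x} hx b hb => by
    rw [map_inv, Equiv.Perm.inv_eq_iff_eq]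
    exact (hx b hb).symm

theorem mem_fixS {l : List (Fin 100)} {x : Spor.HS} : x ∈ fixS R l ↔ ∀ b ∈ l, R.φ x b = b := Iff.rfl

variable {R} {g : ℕ → Spor.HS} (hg : ∀ k < Data.perms.length, ∀ i, R.φ (g k) i = app (Data.perms.getD k 0) i)

include hg

theorem phi_word {w : List ℕ} (hw : smallB w = true) (b : Fin 100) : (R.φ (W g w) b).1 = im w b := by
  rw [map_evW R hg w (of_smallB hw) b]
  rfl

theorem level_sound {K : Subgroup Spor.HS} (hK : ∀ k < 8, g k ∈ K) {pre : List (Fin 100)} {L : Level}
    (h : levelB pre L = true) :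
    L.2.2.length * Nat.card ↥(K ⊓ fixS R (L.1 :: pre)) ≤ Nat.card ↥(K ⊓ fixS R pre) := by
  haveI := finite_HS
  simp only [levelB, Bool.and_eq_true, List.all_eq_true, List.mem_range] at h
  obtain ⟨⟨hw, horb⟩, hnd⟩ := h
  have hmem : ∀ w ∈ L.2.1, W g w ∈ K ⊓ fixS R pre := by
    intro w hw'
    obtain ⟨hs, hp⟩ := hw w hw'
    refine ⟨list_prod_mem fun x hx => ?_, fun c hc => Fin.ext ?_⟩
    · obtain ⟨k, hk, rfl⟩ := List.mem_map.1 hx
      exact hK k (by simpa [Data.perms] using of_smallB hs k hk)
    · rw [phi_word hg hs, Nat.eq_of_beq_eq_true (hp c hc)]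
  have hreach : ∀ i < L.2.2.length, ∃ x ∈ K ⊓ fixS R pre, (R.φ x L.1).1 = (L.2.2.getD i (0, 0, 0)).1 := by
    intro i
    induction i using Nat.strong_induction_on with
    | _ i ih =>
      intro hi
      have h1 := horb i hi
      split_ifs at h1 with h0
      · exact ⟨1, one_mem _, by rw [map_one, Nat.eq_of_beq_eq_true h1]; rfl⟩
      simp only [Bool.and_eq_true, Nat.blt, Nat.ble_eq] at h1
      obtain ⟨⟨hpar, hwi⟩, hpt⟩ := h1
      obtain ⟨x, hx, hxe⟩ := ih (L.2.2.getD i (0, 0, 0)).2.2 (by omega) (by omega)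
      have hwm : L.2.1.getD (L.2.2.getD i (0, 0, 0)).2.1 [] ∈ L.2.1 := by
        rw [List.getD_eq_getElem _ _ (by omega)]
        exact List.getElem_mem _
      refine ⟨W g (L.2.1.getD (L.2.2.getD i (0, 0, 0)).2.1 []) * x, mul_mem (hmem _ hwm) hx, ?_⟩
      rw [map_mul, Equiv.Perm.mul_apply, phi_word hg (hw _ hwm).1, ← Nat.eq_of_beq_eq_true hpt]
      congr 2
      refine Fin.ext ?_
      rw [Fin.val_ofNat, ← hxe, Nat.mod_eq_of_lt (R.φ x L.1).2]
  choose f hfm hfe using fun i : Fin L.2.2.length => hreach i.1 i.2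
  let F : Fin L.2.2.length × ↥(K ⊓ fixS R (L.1 :: pre)) → ↥(K ⊓ fixS R pre) := fun z =>
    ⟨f z.1 * z.2.1, mul_mem (hfm z.1)
      ⟨z.2.2.1, fun c hc => z.2.2.2 c (List.mem_cons_of_mem _ hc)⟩⟩
  have hF : Function.Injective F := by
    rintro ⟨i, x⟩ ⟨j, y⟩ e
    have e' : f i * x.1 = f j * y.1 := congrArg Subtype.val e
    have e1 := congrArg (fun z => (R.φ z L.1).1) e'
    simp only [map_mul, Equiv.Perm.mul_apply, x.2.2 L.1 List.mem_cons_self,
      y.2.2 L.1 List.mem_cons_self, hfe] at e1
    have hij : i = j := by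
      by_contra hne
      rcases Nat.lt_or_lt_of_ne (fun h => hne (Fin.ext h)) with hlt | hlt
      · have := hnd j.1 j.2 i.1 hlt
        rw [e1] at this
        simp at this
      · have := hnd i.1 i.2 j.1 hlt
        rw [e1] at this
        simp at this
    subst hij
    exact Prod.ext rfl (Subtype.ext (mul_left_cancel e'))
  have := Nat.card_le_card_of_injective F hF
  rwa [Nat.card_prod, Nat.card_fin] at this

theorem levels_sound {K : Subgroup Spor.HS} (hK : ∀ k < 8, g k ∈ K) :
    ∀ (Ls : List Level) (pre : List (Fin 100)), levelsB pre Ls = true →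
      (Ls.map fun L => L.2.2.length).prod * Nat.card ↥(K ⊓ fixS R (lastPts pre Ls)) ≤
        Nat.card ↥(K ⊓ fixS R pre)
  | [], pre, _ => by simp [lastPts]
  | L :: Ls, pre, h => by
    rw [levelsB, Bool.and_eq_true] at h
    have h1 := level_sound hg hK h.1
    have h2 := levels_sound hK Ls (L.1 :: pre) h.2
    rw [List.map_cons, List.prod_cons, mul_assoc]
    exact le_trans (Nat.mul_le_mul_left _ h2) h1

theorem eq_top_of_gens {K : Subgroup Spor.HS} (hK : ∀ k < 8, g k ∈ K) : K = ⊤ := by
  haveI := finite_HS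
  have h := levels_sound hg hK levels [] levels_ok
  rw [levels_card] at h
  refine Subgroup.eq_top_of_card_eq K (le_antisymm K.card_le_card_group ?_)
  rw [card_HS]
  have h1 : 1 ≤ Nat.card ↥(K ⊓ fixS R (lastPts [] levels)) := Nat.card_pos
  have h2 : Nat.card ↥(K ⊓ fixS R []) ≤ Nat.card ↥K := Subgroup.card_le_of_le inf_le_left
  nlinarith

theorem ext_base {x y : Spor.HS} (h : ∀ b ∈ base, R.φ x b = R.φ y b) : x = y := by
  haveI := finite_HS
  have hK : ∀ k < 8, g k ∈ (⊤ : Subgroup Spor.HS) := fun k _ => Subgroup.mem_top _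
  have h1 := levels_sound hg hK levels [] levels_ok
  rw [levels_card] at h1
  have h2 : Nat.card ↥((⊤ : Subgroup Spor.HS) ⊓ fixS R []) ≤ 44352000 := by
    rw [← card_HS]
    exact Subgroup.card_le_card_group _
  have h3 : Nat.card ↥((⊤ : Subgroup Spor.HS) ⊓ fixS R base) ≤ 1 := by
    unfold base
    nlinarith
  have hm : y⁻¹ * x ∈ (⊤ : Subgroup Spor.HS) ⊓ fixS R base :=
    ⟨Subgroup.mem_top _, fun b hb => by
      rw [map_mul, Equiv.Perm.mul_apply, h b hb, ← Equiv.Perm.mul_apply, ← map_mul, inv_mul_cancel, map_one]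
      rfl⟩
  rw [Subgroup.eq_bot_of_card_le _ h3, Subgroup.mem_bot, inv_mul_eq_one] at hm
  exact hm.symm

theorem of_eq5 {u v : List ℕ} (h : eq5 u v = true) : W g u = W g v := by
  simp only [eq5, Bool.and_eq_true, List.all_eq_true] at h
  refine ext_base hg fun b hb => Fin.ext ?_
  rw [phi_word hg h.1.1, phi_word hg h.1.2, Nat.eq_of_beq_eq_true (h.2 b hb)]

omit hg

/-! ### The checks -/

/-- Right multiplication of a code by a word in the generators. -/
def fold (a : ℕ) (w : List ℕ) : ℕ := w.foldl (fun c k => mul c (gc k)) a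

/-- Right multiplication inside the normal two-group. -/
def qfold (r : ℕ) (w : List ℕ) : ℕ := w.foldl (fun c k => qmul c (gc k)) r

/-- The word of an element of the normal two-group. -/
def rW (r : ℕ) : List ℕ := AData.rWords.getD r []

/-- The word of a representative of a permutation. -/
def pW (p : ℕ) : List ℕ := AData.pWords.getD p []

theorem qgen_ok : ((List.range 64).all fun r => (List.range 5).all fun k =>
    eq5 (rW (qmul r (gc k))) (rW r ++ [k])) = true := by decide +kernel

theorem pgen_ok : ((List.range 120).all fun p => (List.range 7).all fun k =>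
    eq5 (codeWord (mul (64 * p) (gc k))) (pW p ++ [k])) = true := by decide +kernel

theorem words_ok : (((List.range 64).all fun r => (rW r).all fun k => Nat.blt k 5) &&
    (List.range 120).all fun p => (pW p).all fun k => Nat.blt k 7) = true := by decide +kernel

theorem qfold_ok : ((List.range 64).all fun r => (List.range 64).all fun q =>
    Nat.beq (qfold r (rW q)) (qmul r q)) = true := by decide +kernel

theorem step_ok : ((List.range 7680).all fun a => (List.range 7).all fun k =>
    Nat.beq (mul a (gc k))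
      (64 * pp (mul (64 * pp a) (gc k)) + qmul (qp a) (qp (mul (64 * pp a) (gc k))))) = true := by
  decide +kernel

theorem foldr_ok : ((List.range 120).all fun p => (List.range 64).all fun q =>
    Nat.beq (fold (64 * p) (rW q)) (64 * p + act p q)) = true := by decide +kernel

theorem foldp_ok : ((List.range 120).all fun p => (List.range 120).all fun r =>
    Nat.beq (fold (64 * p) (pW r)) (64 * pmul p r + coc p r)) = true := by decide +kernel

theorem base_words : ([[], [0], [1], [2], [3], [4], [5], [6]] : List (List ℕ)) =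
    codeWord 0 :: (List.range 7).map fun k => codeWord (gc k) := by decide +kernel

/-- The word of a code of the centralizer of `x 0` in five generators. -/
def cuWord (a : ℕ) : List ℕ := AData.words.getD (rget AData.cuIdx 8 (pp a) (qp a)) []

/-- The five generators. -/
def sg (j : ℕ) : ℕ := AData.sgen.getD j 0

theorem cu_ok : ((List.range 7680).all fun a => !inCU a ||
    ((cuWord a).all (fun j => Nat.blt j 5) && Nat.beq (ev sg (cuWord a)) a &&
      Nat.beq (ev (fun j => autOne.phi (sg j)) (cuWord a)) (autOne.phi a))) = true := by decide +kernel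

theorem sgen_ok : ((List.range 5).all fun j =>
    eq5 ([7] ++ codeWord (sg j)) (codeWord (autOne.phi (sg j)) ++ [7])) = true := by decide +kernel

theorem rel_ok : (eq5 [7, 7, 7] [] && eq5 (codeWord ec ++ [7] ++ codeWord ec ++ [7]) (codeWord ccOne) &&
    eq5 (codeWord 1957 ++ [7] ++ codeWord 7430 ++ [7] ++ codeWord 4037 ++ [7] ++ codeWord 6699 ++ [7] ++
      codeWord 3619 ++ [7]) (codeWord dOne) && eq5 (codeWord zc ++ codeWord zc) [] &&
    smallB (codeWord zc) && Nat.beq (im (codeWord zc) 1) 1 &&
    base.any fun b => !Nat.beq (im (codeWord zc) b) b.1) = true := by decide +kernel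

/-! ### The coordinates -/

/-- The element of a code. -/
def mu (g : ℕ → Spor.HS) (a : ℕ) : Spor.HS := W g (codeWord a)

theorem mu_def (g : ℕ → Spor.HS) (a : ℕ) : W g (codeWord a) = mu g a := rfl

theorem mu_split (g : ℕ → Spor.HS) {a : ℕ} {r p : ℕ} (hr : qp a = r) (hp : pp a = p) :
    mu g a = W g (rW r) * W g (pW p) := by
  rw [mu, codeWord, W_append, hr, hp]
  rfl

theorem split_at {r p : ℕ} (hr : r < 64) (hp : p < 120) : qp (64 * p + r) = r ∧ pp (64 * p + r) = p := by
  unfold qp pp
  omega

include hg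

theorem mu_small : mu g 0 = 1 ∧ ∀ k < 7, mu g (gc k) = g k := by
  have h := base_words
  simp only [List.range, List.range.loop, List.map, List.cons.injEq, and_true] at h
  obtain ⟨h0, h1, h2, h3, h4, h5, h6, h7⟩ := h
  refine ⟨by rw [mu, ← h0, W_nil], fun k hk => ?_⟩
  interval_cases k <;> simp only [mu, ← h1, ← h2, ← h3, ← h4, ← h5, ← h6, ← h7, W_cons, W_nil, mul_one]

theorem r_mul {r q : ℕ} (hr : r < 64) (hq : q < 64) : W g (rW r) * W g (rW q) = W g (rW (qmul r q)) := by
  have hw := words_ok
  simp only [Bool.and_eq_true, List.all_eq_true, List.mem_range, Nat.blt, Nat.ble_eq] at hw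
  have key : ∀ w : List ℕ, (∀ k ∈ w, k < 5) → ∀ r < 64, W g (rW r) * W g w = W g (rW (qfold r w)) := by
    intro w
    induction w with
    | nil => intro _ r _; rw [W_nil, mul_one]; rfl
    | cons k w ih =>
      intro h r hr
      have e := of_eq5 hg (all_range (all_range qgen_ok hr) (h k List.mem_cons_self))
      rw [W_append, W_cons, W_nil, mul_one] at e
      rw [W_cons, ← mul_assoc, ← e, ih (fun j hj => h j (List.mem_cons_of_mem _ hj)) _ (qmul_lt _ _)]
      rfl
  rw [key _ (fun k hk => by have := hw.1 q hq k hk; omega) r hr,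
    Nat.eq_of_beq_eq_true (all_range (all_range qfold_ok hr) hq)]

theorem mu_step {a k : ℕ} (ha : a < 7680) (hk : k < 7) : mu g (mul a (gc k)) = mu g a * g k := by
  have hp := pp_lt a
  have e := of_eq5 hg (all_range (all_range pgen_ok hp) hk)
  rw [W_append, W_cons, W_nil, mul_one, ← mu] at e
  rw [mu_split g rfl rfl] at e
  rw [mu_split g (a := a) rfl rfl, mul_assoc, ← e, ← mul_assoc, r_mul hg (qp_lt _) (qp_lt _),
    Nat.eq_of_beq_eq_true (all_range (all_range step_ok ha) hk)]
  obtain ⟨h1, h2⟩ := split_at (qmul_lt (qp a) (qp (mul (64 * pp a) (gc k)))) (pp_lt (mul (64 * pp a) (gc k)))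
  exact mu_split g h1 h2

theorem mu_fold : ∀ w : List ℕ, (∀ k ∈ w, k < 7) → ∀ a < 7680, mu g (fold a w) = mu g a * W g w
  | [], _, a, _ => by rw [W_nil, mul_one]; rfl
  | k :: w, h, a, ha => by
    rw [W_cons, ← mul_assoc, ← mu_step hg ha (h k List.mem_cons_self),
      ← mu_fold w (fun j hj => h j (List.mem_cons_of_mem _ hj)) _ (mul_lt _ _)]
    rfl

theorem mu_mul (a b : ℕ) : mu g (mul a b) = mu g a * mu g b := by
  have hw := words_ok
  simp only [Bool.and_eq_true, List.all_eq_true, List.mem_range, Nat.blt, Nat.ble_eq] at hw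
  have hp := pp_lt a
  have hq := qp_lt b
  have hp' := pp_lt b
  have hsp : ∀ p < 120, mu g (64 * p) = W g (pW p) := fun p hp => by
    rw [mu_split g (a := 64 * p) (r := 0) (p := p) (by unfold qp; omega) (by unfold pp; omega)]
    have h0 := (mu_small hg).1
    rw [mu_split g (r := 0) (p := 0) (by rfl) (by rfl)] at h0
    have : W g (rW 0) = 1 := by rw [show rW 0 = [] from by decide +kernel, W_nil]
    rw [this, one_mul]
  have hact : act (pp a) (qp b) < 64 := Nat.mod_lt _ (by norm_num)
  have hcoc : coc (pp a) (pp b) < 64 := Nat.mod_lt _ (by norm_num)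
  have e1 : W g (pW (pp a)) * W g (rW (qp b)) = W g (rW (act (pp a) (qp b))) * W g (pW (pp a)) := by
    rw [← hsp _ hp, ← mu_fold hg _ (fun k hk => by have := hw.1 _ hq k hk; omega) _ (by omega),
      Nat.eq_of_beq_eq_true (all_range (all_range foldr_ok hp) hq),
      mu_split g (split_at hact hp).1 (split_at hact hp).2, hsp _ hp]
  have e2 : W g (pW (pp a)) * W g (pW (pp b)) =
      W g (rW (coc (pp a) (pp b))) * W g (pW (pmul (pp a) (pp b))) := by
    rw [← hsp _ hp, ← mu_fold hg _ (fun k hk => by have := hw.2 _ hp' k hk; omega) _ (by omega),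
      Nat.eq_of_beq_eq_true (all_range (all_range foldp_ok hp) hp'),
      mu_split g (split_at hcoc (pmul_lt _ hp _ hp')).1 (split_at hcoc (pmul_lt _ hp _ hp')).2]
  have hm : mul a b = 64 * pmul (pp a) (pp b) +
      qmul (qmul (qp a) (act (pp a) (qp b))) (coc (pp a) (pp b)) := by
    unfold mul
    omega
  obtain ⟨h1, h2⟩ := split_at (qmul_lt (qmul (qp a) (act (pp a) (qp b))) (coc (pp a) (pp b)))
    (pmul_lt _ hp _ hp')
  rw [hm, mu_split g h1 h2, mu_split g (a := a) rfl rfl, mu_split g (a := b) rfl rfl, mul_assoc,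
    ← mul_assoc (W g (pW (pp a))), e1, mul_assoc, e2, ← mul_assoc, ← mul_assoc,
    r_mul hg (qp_lt a) hact, r_mul hg (qmul_lt _ _) hcoc]

theorem mu_sconj {r : ℕ} (hr : inCU r = true) : g 7 * mu g r = mu g (autOne.phi r) * g 7 := by
  have hmod : mu g (r % 7680) = mu g r := by rw [mu, mu, codeWord, codeWord, qp_mod, pp_mod]
  have h := all_range cu_ok (Nat.mod_lt r (show 0 < 7680 by norm_num))
  have hphi : autOne.phi (r % 7680) = autOne.phi r := by rw [Auto.phi, Auto.phi, qp_mod, pp_mod]
  have hcu : inCU (r % 7680) = true := by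
    rw [← hr, inCU, inCU]
    simp only [mul, qp_mod, pp_mod]
  simp only [hcu, Bool.not_true, Bool.false_or, Bool.and_eq_true, List.all_eq_true, Nat.blt, Nat.ble_eq] at h
  obtain ⟨⟨hj, hev⟩, hevp⟩ := h
  rw [hphi] at hevp
  have key : ∀ w : List ℕ, (∀ j ∈ w, j < 5) →
      g 7 * mu g (ev sg w) = mu g (ev (fun j => autOne.phi (sg j)) w) * g 7 := by
    intro w
    induction w with
    | nil => intro _; simp only [ev, (mu_small hg).1, mul_one, one_mul]
    | cons j w ih =>
      intro h
      have e := of_eq5 hg (all_range sgen_ok (h j List.mem_cons_self))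
      simp only [W_append, W_cons, W_nil, mul_one, mu_def] at e
      simp only [ev, mu_mul hg]
      rw [← mul_assoc, e, mul_assoc, ih fun i hi => h i (List.mem_cons_of_mem _ hi), ← mul_assoc]
  have := key _ (fun j hj' => by have := hj j hj'; omega)
  rwa [Nat.eq_of_beq_eq_true hev, Nat.eq_of_beq_eq_true hevp, hmod] at this

omit hg

theorem exists_witness (R : Lib.HSMult.Real) :
    ∃ (μ : ℕ → Spor.HS) (σ : Spor.HS), Rels μ σ autOne ccOne ∧ wordG μ σ wordOne = μ dOne ∧
      orderOf (μ zc) = 2 ∧ (∃ i, R.φ (μ zc) i = i) ∧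
      Subgroup.closure (insert σ (Set.range μ)) = ⊤ := by
  obtain ⟨g, hg⟩ := exists_elements R perms_ok
  have h := rel_ok
  simp only [Bool.and_eq_true, List.any_eq_true, Bool.not_eq_true'] at h
  obtain ⟨⟨⟨⟨⟨⟨hcube, htw⟩, hword⟩, hsq⟩, hsm⟩, hfix⟩, b, hb, hmove⟩ := h
  refine ⟨mu g, g 7, ⟨mu_mul hg, (mu_small hg).1, fun a => ?_, fun r hr => mu_sconj hg hr, ?_, ?_⟩, ?_, ?_,
    ⟨1, Fin.ext ?_⟩, ?_⟩
  · rw [mu, mu, codeWord, codeWord, qp_mod, pp_mod]
  · have e := of_eq5 hg hcube
    simpa only [W_cons, W_nil, mul_one, ← mul_assoc] using e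
  · have e := of_eq5 hg htw
    simpa only [W_append, W_cons, W_nil, mul_one, mu_def, ← mul_assoc] using e
  · have e := of_eq5 hg hword
    simp only [W_append, W_cons, W_nil, mul_one, mu_def] at e
    simpa only [wordOne, wordG, letterG, one_mul, ← mul_assoc] using e
  · haveI : _root_.Fact (Nat.Prime 2) := ⟨Nat.prime_two⟩
    refine orderOf_eq_prime ?_ fun e1 => ?_
    · have e := of_eq5 hg hsq
      rw [pow_two]
      simpa only [W_append, W_nil, mu_def] using e
    · have := phi_word hg hsm b
      rw [← mu, e1, map_one] at this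
      rw [← this] at hmove
      simp at hmove
  · rw [mu, phi_word hg hsm]
    exact Nat.eq_of_beq_eq_true hfix
  · refine eq_top_of_gens hg fun k hk => ?_
    rcases Nat.lt_or_ge k 7 with h7 | h7
    · exact Subgroup.subset_closure (Set.mem_insert_of_mem _ ⟨gc k, (mu_small hg).2 k h7⟩)
    · obtain rfl : k = 7 := by omega
      exact Subgroup.subset_closure (Set.mem_insert _ _)

end Cfsg.Agent.HSLocal.Witness
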