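import Cfsg.Agent.Lib.HSLocal.Close.Auto
import Cfsg.Agent.Lib.HSLocal.Close.Close
import Cfsg.Agent.Lib.HSLocal.Close.Witness
import Cfsg.Agent.Lib.HSLocal.Finish.Iso

/-!
A group in which the centralizer of an involution `t` has the coordinates, with an element of order three
permuting `t`, `x 0` and their product, is the Higman–Sims group.
-/

set_option autoImplicit false
set_option maxRecDepth 100000

namespace Cfsg.Agent.HSLocal

open Cfsg Cfsg.Agent.Lib.HSMult

universe v

variable {G : Type v} [Group G] {t : G}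

theorem back_one : ∀ r, inCU r = true → inCU (autOne.phinv r) = true ∧ autOne.phi (autOne.phinv r) = r % 7680 := by
  intro r hr
  have h := all_range (show ((List.range 7680).all fun r => !inCU r ||
    (Nat.beq (autOne.phi r) (phiAt (fun i => (AData.caseIm.getD 1 []).getD i 0) r) &&
      inCU (autOne.phinv r) && Nat.beq (autOne.phi (autOne.phinv r)) r)) = true from autOne_ok)
    (Nat.mod_lt r (by norm_num : 7680 > 0))
  simp only [(inCU_mod r).trans hr, Bool.not_true, Bool.false_or, Bool.and_eq_true, Nat.beq_eq] at h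
  have hp : autOne.phinv (r % 7680) = autOne.phinv r := by simp only [Auto.phinv, qp_mod, pp_mod]
  rw [hp] at h
  exact ⟨h.1.2, h.2⟩

/-- The tables of a case give relations. -/
theorem Hom.rels_of_case {ρ : ℕ → G} (C : Hom t ρ) {s : G} {A : Auto} {j cc : ℕ} (hA : autCheck A j = true)
    (hs : s * s * s = 1) (hg : ∀ k < 5, s * ρ (sg k) * s⁻¹ = ρ (caseIm j k))
    (hcu : ∀ k < 5, inCU (caseIm j k) = true ∧ caseIm j k < 7680)
    (ht : ρ ec * s * ρ ec * s = ρ cc) : Rels ρ s A cc := by
  have P : Pre t ρ s (caseIm j) := ⟨hs, fun k hk => (hcu k hk).2, fun k hk => (hcu k hk).1, hg⟩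
  refine ⟨C.mul_eq, C.zero, C.mod_eq, fun r hr => ?_, hs, ht⟩
  have h := all_range hA (Nat.mod_lt r (by norm_num : 7680 > 0))
  simp only [(inCU_mod r).trans hr, Bool.not_true, Bool.false_or, Bool.and_eq_true, Nat.beq_eq] at h
  have hp : A.phi (r % 7680) = A.phi r := by simp only [Auto.phi, qp_mod, pp_mod]
  rw [hp] at h
  have e := C.conj_phi P hr
  rw [show phiAt (caseIm j) (r % 7680) = A.phi r from h.1.1.symm] at e
  rw [← e]
  group

theorem case_facts : (∀ j < 4, ∀ k < 5, inCU (caseIm j k) = true ∧ caseIm j k < 7680) ∧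
    AData.caseCc.getD 0 0 = ccZero ∧ AData.caseCc.getD 1 0 = ccOne := by decide +kernel

/-- One of the two cases occurs. -/
theorem exists_rels {ρ₀ : ℕ → G} (C₀ : Coord t ρ₀) {s₀ : G} (hs : s₀ * s₀ * s₀ = 1)
    (hz : s₀ * t * s₀⁻¹ = ρ₀ 1) (hx : s₀ * ρ₀ 1 * s₀⁻¹ = ρ₀ 33) :
    ∃ (ρ : ℕ → G) (s : G), Hom t ρ ∧ (Rels ρ s autZero ccZero ∨ Rels ρ s autOne ccOne) := by
  have C := C₀.hom
  have key : ∀ {ρ : ℕ → G}, Hom t ρ → ∀ {s : G} {a b c : ℕ}, Pre t ρ s (im5 a b c) →
      (∀ cc ∈ AData.cu, twistCond a b c cc = true → ∃ j, classOf a b c = some j) →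
      ∀ j, classOf a b c = some j → j < 2 →
      ∃ s', Rels ρ s' autZero ccZero ∨ Rels ρ s' autOne ccOne := by
    intro ρ C s a b c P hsome j hj hj2
    obtain ⟨j', -, hj', s', h1, h2, h3⟩ := C.normalize P hsome
    obtain rfl : j' = j := Option.some_injective _ (hj'.symm.trans hj)
    obtain ⟨f1, f2, f3⟩ := case_facts
    rcases Nat.lt_or_ge j' 1 with h | h
    · obtain rfl : j' = 0 := by omega
      exact ⟨s', Or.inl (C.rels_of_case autZero_ok h1 h2 (f1 0 (by norm_num)) (f2 ▸ h3))⟩
    · obtain rfl : j' = 1 := by omega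
      exact ⟨s', Or.inr (C.rels_of_case autOne_ok h1 h2 (f1 1 (by norm_num)) (f3 ▸ h3))⟩
  obtain ⟨a, b, c, P, hsome⟩ := C.exists_pre hs (by simpa [x0] using hz) (by simpa [x0] using hx)
  obtain ⟨j, hj4, hj, s, h1, h2, -⟩ := C.normalize P hsome
  by_cases hj2 : j < 2
  · obtain ⟨s', h⟩ := key C P hsome j hj hj2
    exact ⟨_, s', C, h⟩
  -- change the coordinates
  have C' := C.twisted
  set ρ := fun a => ρ₀ (a % 7680) with hρ
  set ρ' := fun a => ρ (outer (a % 7680)) with hρ'
  have h := outerCheck_ok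
  simp only [outerCheck, List.all_eq_true, Bool.and_eq_true, List.mem_range, Nat.beq_eq, Nat.blt_eq] at h
  obtain ⟨⟨⟨hk, h0⟩, hone⟩, hcl⟩ := h j (by
    simp only [List.mem_cons, List.not_mem_nil, or_false]; omega)
  cases hc : classOf (outerIm j 2) (outerIm j 3) (outerIm j 4) with
  | none => rw [hc] at hcl; simp at hcl
  | some i =>
    rw [hc] at hcl
    simp only [Nat.blt_eq] at hcl
    have P0 : Pre t ρ s (caseIm j) :=
      ⟨h1, fun k hk => (case_facts.1 j hj4 k hk).2, fun k hk => (case_facts.1 j hj4 k hk).1, h2⟩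
    have hconj : ∀ k < 5, s * ρ' (sg k) * s⁻¹ = ρ' (outerIm j k) := by
      intro k hk5
      have hsg : sg k < 7680 := by interval_cases k <;> decide +kernel
      have ho := (hk k hk5).1
      have e := C.conj_phi P0 ho
      rw [Nat.mod_eq_of_lt (outer_inv _ hsg).1] at e
      show s * ρ (outer (sg k % 7680)) * s⁻¹ = ρ (outer (outerIm j k % 7680))
      rw [Nat.mod_eq_of_lt hsg, Nat.mod_eq_of_lt (hk k hk5).2, e]
      congr 1
      exact ((outer_inv _ (ev_lt _ _)).2.2.2).symm
    have hz' : s * t * s⁻¹ = ρ' x0 := by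
      have := hconj 0 (by norm_num)
      rw [show sg 0 = zc from gen_facts.2.2.2.1, C'.zc_eq, h0] at this
      exact this
    have hx' : s * ρ' x0 * s⁻¹ = ρ' 33 := by
      have := hconj 1 (by norm_num)
      rw [show sg 1 = x0 from gen_facts.2.2.2.2.1, hone] at this
      exact this
    obtain ⟨a', b', c', P', hsome'⟩ := C'.exists_pre h1 hz' hx'
    have same : ∀ k, 2 ≤ k → k < 5 → im5 a' b' c' k = outerIm j k := fun k _ hk5 =>
      C'.inj' (P'.im_lt k hk5) (hk k hk5).2 ((P'.conj k hk5).symm.trans (hconj k hk5))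
    have e2 : a' = outerIm j 2 := same 2 le_rfl (by norm_num)
    have e3 : b' = outerIm j 3 := same 3 (by norm_num) (by norm_num)
    have e4 : c' = outerIm j 4 := same 4 (by norm_num) (by norm_num)
    obtain ⟨s', hs'⟩ := key C' P' hsome' i (by rw [e2, e3, e4]; exact hc) hcl
    exact ⟨_, s', C', hs'⟩

/-- The recognition. -/
theorem isoHS_of_coord [Finite G] (ht : orderOf t = 2) {ρ₀ : ℕ → G} (C₀ : Coord t ρ₀) {s₀ : G}
    (hs : s₀ * s₀ * s₀ = 1) (hz : s₀ * t * s₀⁻¹ = ρ₀ 1) (hx : s₀ * ρ₀ 1 * s₀⁻¹ = ρ₀ 33) : Spor.IsoHS G := by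
  classical
  obtain ⟨ρ, s, C, F | F⟩ := exists_rels C₀ hs hz hx
  · exfalso
    have hback : ∀ r, inCU r = true → inCU (autZero.phinv r) = true ∧
        autZero.phi (autZero.phinv r) = r % 7680 := by
      intro r hr
      have h := all_range (show ((List.range 7680).all fun r => !inCU r ||
        (Nat.beq (autZero.phi r) (phiAt (fun i => (AData.caseIm.getD 0 []).getD i 0) r) &&
          inCU (autZero.phinv r) && Nat.beq (autZero.phi (autZero.phinv r)) r)) = true from autZero_ok)
        (Nat.mod_lt r (by norm_num : 7680 > 0))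
      simp only [(inCU_mod r).trans hr, Bool.not_true, Bool.false_or, Bool.and_eq_true, Nat.beq_eq] at h
      rw [show autZero.phinv (r % 7680) = autZero.phinv r by simp only [Auto.phinv, qp_mod, pp_mod]] at h
      exact ⟨h.1.2, h.2⟩
    obtain ⟨d, hd, -⟩ := C.value F hback phi_zc.1 coverZero collapseZero
    exact List.not_mem_nil hd
  · have hcs : certsOne.all (certOk autOne ccOne wordOne) = true := by
      simp only [certsOne, List.all_append, collapseOneA, collapseOneB, collapseOneC, collapseOneD, Bool.and_self]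
    obtain ⟨d, hd, hword⟩ := C.value F back_one phi_zc.2.1 coverOne hcs
    rw [List.mem_singleton] at hd
    subst hd
    haveI := finite_HS
    obtain ⟨R⟩ := exists_real
    obtain ⟨μ, σ, W, hW, hord, hfix, htop⟩ := Witness.exists_witness R
    let P := G × ↥Spor.HS
    let π : ℕ → P := fun a => (ρ a, μ a)
    let u : P := (s, σ)
    have F' : Rels π u autOne ccOne :=
      ⟨fun a b => Prod.ext (F.mul_eq a b) (W.mul_eq a b), Prod.ext F.zero W.zero,
        fun a => Prod.ext (F.mod_eq a) (W.mod_eq a), fun r hr => Prod.ext (F.sconj r hr) (W.sconj r hr),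
        Prod.ext F.cube W.cube, Prod.ext F.twist W.twist⟩
    have hwordG : ∀ L : List Letter, wordG π u L = (wordG ρ s L, wordG μ σ L) := by
      intro L
      induction L with
      | nil => rfl
      | cons l L ih =>
        rw [wordG, ih]
        cases l <;> rfl
    set D := Subgroup.closure (insert u (Set.range π)) with hD
    have hle : Nat.card ↥D ≤ 44352000 :=
      card_closure_le F' back_one (fun a ha e f he hf h => C.inj' he hf (mul_left_cancel (a := ρ a)
        (by rw [← C.mul_eq, ← C.mul_eq, h]))) (by rw [hwordG, hword, hW])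
    let q : ↥D →* ↥Spor.HS := (MonoidHom.snd G ↥Spor.HS).comp D.subtype
    have hqsurj : Function.Surjective q := by
      have himg : D.map (MonoidHom.snd G ↥Spor.HS) = ⊤ := by
        rw [hD, MonoidHom.map_closure, ← htop, Set.image_insert_eq, ← Set.range_comp]
        rfl
      intro y
      obtain ⟨p, hp, e⟩ : y ∈ D.map (MonoidHom.snd G ↥Spor.HS) := himg ▸ Subgroup.mem_top y
      exact ⟨⟨p, hp⟩, e⟩
    have hq : Function.Bijective q :=
      (Nat.bijective_iff_surjective_and_card q).2 ⟨hqsurj,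
        le_antisymm (by rw [card_HS]; exact hle) (Nat.card_le_card_of_surjective q hqsurj)⟩
    let φ : ↥Spor.HS →* G := ((MonoidHom.fst G ↥Spor.HS).comp D.subtype).comp
      (MulEquiv.ofBijective q hq).symm.toMonoidHom
    have hmem : π zc ∈ D := Subgroup.subset_closure (Set.mem_insert_of_mem _ ⟨zc, rfl⟩)
    have hφ : φ (μ zc) = t := by
      have e : (MulEquiv.ofBijective q hq).symm (μ zc) = ⟨π zc, hmem⟩ := by
        rw [MulEquiv.symm_apply_eq]; rfl
      show ((MulEquiv.ofBijective q hq).symm (μ zc)).1.1 = t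
      rw [e]
      exact C.zc_eq
    refine Finish.isoHS R φ hord hfix hφ (fun e => by rw [e, orderOf_one] at ht; norm_num at ht) ?_
    let f : Fin 7680 → ↥(Subgroup.centralizer ({t} : Set G)) :=
      fun a => ⟨ρ a, Subgroup.mem_centralizer_singleton_iff.2 (C.mem a)⟩
    have hf : Function.Surjective f := by
      rintro ⟨g, hg⟩
      obtain ⟨a, ha, e⟩ := C.surj g (Subgroup.mem_centralizer_singleton_iff.1 hg)
      exact ⟨⟨a, ha⟩, Subtype.ext e⟩
    simpa using Nat.card_le_card_of_surjective f hf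

end Cfsg.Agent.HSLocal
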