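import Cfsg.Agent.Lib.HSLocal.Close.Frame
import Cfsg.Agent.Lib.HSLocal.Close.CollapseZero0
import Cfsg.Agent.Lib.HSLocal.Close.CollapseOne0
import Cfsg.Agent.Lib.HSLocal.Close.CollapseOne1
import Cfsg.Agent.Lib.HSLocal.Close.CollapseOne2
import Cfsg.Agent.Lib.HSLocal.Close.CollapseOne3

/-!
The value of a word centralizing `t` is one of few codes, all but one of which make `s` fix the base point.
-/

set_option autoImplicit false

namespace Cfsg.Agent.HSLocal

/-- A code carried along a word. -/
def carry (A : Auto) : List Letter → ℕ → Option ℕ
  | [], y => some y
  | .code g :: L, y => carry A L (cj g y)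
  | .s :: L, y => if inCU y then carry A L (A.phi y) else none
  | .si :: _, _ => none

/-- The certificates of the first case. -/
def certsZero : List (Cert × List Move × List ℕ) := CollapseZero0.certs

/-- The certificates of the second case. -/
def certsOne : List (Cert × List Move × List ℕ) :=
  CollapseOne0.certs ++ CollapseOne1.certs ++ CollapseOne2.certs ++ CollapseOne3.certs

/-- A certificate works for all its values. -/
def certOk (A : Auto) (cc : ℕ) (L : List Letter) (e : Cert × List Move × List ℕ) : Bool :=
  e.2.2.all fun d => e.1.collapse A (relsOf cc L d) e.2.1

/-- The word centralizes `t`, and every value with the right action on `g` is covered. -/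
def coverOk (A : Auto) (L : List Letter) (g : ℕ) (extra : List ℕ) (cs : List (Cert × List Move × List ℕ)) : Bool :=
  (match carry A L zc with
    | none => false
    | some y => Nat.beq y zc) &&
  (match carry A L g with
    | none => false
    | some y => (List.range 7680).all fun d =>
        !Nat.beq (cj d g) (y % 7680) || extra.contains d || cs.any fun e => e.2.2.contains d)

end Cfsg.Agent.HSLocal
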